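import Cfsg.Agent.LieRecognition.FeitHigmanGroup
import Cfsg.Agent.LieRecognition.FeitHigmanLin
import Mathlib
import Cfsg.Agent.FastGrp
import Cfsg.Agent.Prune
set_option linter.all false

section
prune_inst 0x7fffbdfcffbffbffdfff7e77ffdaddfc3b939fffeffffd43ffe66bffbfff23b709cdf3ad89e4b8fece17c29410a87843fb7eefffe86fdc7ffffdfff45ffbee4ff5f7bd08519c88b00fbc2ffe63f1778a6f3fffffffffffffffffffffffffffffffffffffffff

-- part: LieRecognition/FHSquare
section
prune_inst 0x2000000000000000800202002c4242000000000300000140000005c0844200400660b03000120080840440380008110000200200000000000000011800800000120410440000000000000002410000000000000000000000000000000000000000000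
set_option linter.all false
open scoped Cfsg.Agent.FastGrp

/-!
# The square conditions of Feit–Higman

For a finite group with a (B,N)-pair of rank two and parameters `s, t`: Weyl group of order 16 ⟹ `2 s t` is a
square; Weyl group of order 12 ⟹ `s t` is a square.
-/

set_option autoImplicit false

namespace Cfsg.Agent.LieRecognition.FHSquare

open Cfsg Real

section Lin

open FeitHigmanLin

variable {V : Type*} [AddCommGroup V] [Module ℝ V] [FiniteDimensional ℝ V] [Nontrivial V]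

/-- all `2 √(st) cos (π j / n)` are rational -/
theorem rat_cos {a b : Module.End ℝ V} {s t : ℝ} {s' t' : ℚ} (hss : s = s') (htt : t = t')
    (hs : 1 < s) (ht : 1 < t)
    (ha : a * a = (s - 1) • a + s • (1 : Module.End ℝ V))
    (hb : b * b = (t - 1) • b + t • (1 : Module.End ℝ V)) {n : ℕ} (hn : 2 ≤ n)
    (hbraid : (a * b) ^ n = (b * a) ^ n)
    (htr : ∀ k, 1 ≤ k → k ≤ 2 * n →
      LinearMap.trace ℝ V (FeitHigmanLin.alt a b k) = 0 ∧ LinearMap.trace ℝ V (FeitHigmanLin.alt b a k) = 0) :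
    ∀ j : ℕ, 1 ≤ j → j < n → ∃ z : ℚ, 2 * Real.sqrt (s * t) * cos (π * j / n) = z := by
  have hst : 0 < s * t := by positivity
  set r := Real.sqrt (s * t) with hr
  have hr0 : 0 < r := Real.sqrt_pos.2 hst
  have hrr : r * r = s * t := Real.mul_self_sqrt hst.le
  have hn0 : (0 : ℝ) < n := by exact_mod_cast (by omega : 0 < n)
  have hv : 0 < Module.finrank ℝ V := Module.finrank_pos
  have aux : ∀ j : ℕ, 1 ≤ j → j < n → 0 < sin (π * j / n) ∧ (2 * r * cos (π * j / n)) ^ 2 <
      4 * (s * t) ∧ ∃ D : ℕ, (D : ℝ) * n * ((1 + s * t - 2 * r * cos (π * j / n)) *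
        (s + t + 2 * r * cos (π * j / n))) =
      Module.finrank ℝ V * (4 * (s * t) - (2 * r * cos (π * j / n)) ^ 2) := by
    intro j hj1 hj2
    have hj0 : (0 : ℝ) < j := by exact_mod_cast hj1
    have hjn : (j : ℝ) < n := by exact_mod_cast hj2
    have hsin : 0 < sin (π * j / n) := by
      apply sin_pos_of_pos_of_lt_pi
      · positivity
      · rw [div_lt_iff₀ hn0]
        exact mul_lt_mul_of_pos_left hjn pi_pos
    set θ := π * j / n with hθ
    have hcs := sin_sq_add_cos_sq θ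
    have hlt : (2 * r * cos θ) ^ 2 < 4 * (s * t) := by
      have : (2 * r * cos θ) ^ 2 = 4 * (r * r) * cos θ ^ 2 := by ring
      rw [this, hrr]
      have h1 : cos θ ^ 2 < 1 := by
        have : 0 < sin θ ^ 2 := by positivity
        linarith
      have h2 : 0 < 4 * (s * t) := by positivity
      nlinarith
    refine ⟨hsin, hlt, ?_⟩
    apply even_eq hs ht ha hb hn hbraid htr
    · rw [← hrr]
      apply S_cos_eq_zero hr0.ne' hsin.ne'
      have : (n : ℝ) * θ = j * π := by rw [hθ]; field_simp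
      rw [this, sin_nat_mul_pi]
    · intro h
      rw [h] at hlt
      nlinarith [sq_nonneg (s * t - 1)]
    · intro h
      rw [h] at hlt
      nlinarith [sq_nonneg (s - t)]
  intro j hj1 hj2
  obtain ⟨h1, h2, D, hD⟩ := aux j hj1 hj2
  obtain ⟨h3, h4, D', hD'⟩ := aux (n - j) (by omega) (by omega)
  have e : π * ((n - j : ℕ) : ℝ) / n = π - π * j / n := by
    rw [Nat.cast_sub hj2.le]
    field_simp
  rw [e, cos_pi_sub] at hD'
  refine rational_even hss htt hs ht (by omega) hv h2 hD (D' := D') ?_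
  rw [show (2 * r * -cos (π * j / n)) = -(2 * r * cos (π * j / n)) by ring] at hD'
  rw [neg_sq] at hD'
  rw [← hD']
  ring

end Lin

open FeitHigmanGroup

variable {G : Type*} [Group G] {P : BNPair G} {s t : G}

theorem alt_toLin {ι : Type*} [Fintype ι] [DecidableEq ι] : ∀ (k : ℕ) (A B : Matrix ι ι ℝ),
    FeitHigmanLin.alt (Matrix.toLinAlgEquiv' A) (Matrix.toLinAlgEquiv' B) k =
      Matrix.toLinAlgEquiv' (FeitHigmanGroup.alt k A B)
  | 0, A, B => (map_one (Matrix.toLinAlgEquiv' (R := ℝ) (n := ι))).symm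
  | k + 1, A, B => by
    rw [FeitHigmanLin.alt_succ, alt_toLin k B A, ← map_mul]
    rfl

theorem hecke [Finite G] [Fintype (G ⧸ P.B)] [DecidableEq (G ⧸ P.B)] (hst : s ≠ t) (hS : P.S = {s, t}) :
    ∃ n : ℕ, 2 ≤ n ∧ alt n (T P s) (T P t) = alt n (T P t) (T P s) ∧
      (∀ k, 1 ≤ k → k ≤ n → (alt k (T P s) (T P t)).trace = 0 ∧ (alt k (T P t) (T P s)).trace = 0) ∧
      ((P.B ⊓ P.N).subgroupOf P.N).index = 2 * n := by
  have hs : s ∈ P.S := by rw [hS]; simp
  have ht : t ∈ P.S := by rw [hS]; simp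
  obtain ⟨n, hn2, hred, hbraid, hne⟩ := exists_max_red hS hst
  have hredle : ∀ k, k ≤ n → Red P s t k := fun k hk => hred.of_le hs ht hk
  refine ⟨n, hn2, ?_, ?_, card_weyl hS (by omega) hred hbraid hne⟩
  · rw [alt_T hs ht hred.1, alt_T ht hs hred.2]
    exact T_congr hbraid
  · intro k hk1 hkn
    have h1 := hredle k hkn
    rw [alt_T hs ht h1.1, alt_T ht hs h1.2]
    constructor
    · apply trace_T
      intro h
      have h3 := (LieExceptional.BNPairCore.len_eq_zero_iff (alt_mem_N hs ht k)).2 h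
      rw [h1.1] at h3
      omega
    · apply trace_T
      intro h
      have h3 := (LieExceptional.BNPairCore.len_eq_zero_iff (alt_mem_N ht hs k)).2 h
      rw [h1.2] at h3
      omega

/-- all `2 √(st) cos (π j / n)`, `2 n` = half the order of the Weyl group, are rational -/
theorem rat_cos_BN [Finite G] (hst : s ≠ t) (hS : P.S = {s, t}) {n : ℕ}
    (hidx : ((P.B ⊓ P.N).subgroupOf P.N).index = 2 * (2 * n)) (hn : 2 ≤ n) :
    ∀ j : ℕ, 1 ≤ j → j < n →
      ∃ z : ℚ, 2 * Real.sqrt ((q P s : ℝ) * (q P t : ℝ)) * cos (π * j / n) = z := by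
  classical
  have := Fintype.ofFinite (G ⧸ P.B)
  have hs : s ∈ P.S := by rw [hS]; simp
  have ht : t ∈ P.S := by rw [hS]; simp
  have hq1 : 2 ≤ q P s := two_le_q hs
  have hq2 : 2 ≤ q P t := two_le_q ht
  obtain ⟨n', hn', hbr, htr, hidx'⟩ := hecke (P := P) hst hS
  have hnn : n' = 2 * n := by omega
  subst hnn
  refine rat_cos (V := (G ⧸ P.B) → ℝ) (a := Matrix.toLinAlgEquiv' (T P s)) (b := Matrix.toLinAlgEquiv' (T P t))
    (s' := (q P s : ℚ)) (t' := (q P t : ℚ)) (by push_cast; rfl) (by push_cast; rfl)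
    (by exact_mod_cast hq1) (by exact_mod_cast hq2) ?_ ?_ hn ?_ ?_
  · rw [← map_mul, T_sq hs, map_add, map_smul, map_smul, map_one]
  · rw [← map_mul, T_sq ht, map_add, map_smul, map_smul, map_one]
  · rw [← FeitHigmanLin.alt_two_mul, ← FeitHigmanLin.alt_two_mul, alt_toLin, alt_toLin, hbr]
  · intro k hk1 hk2
    rw [alt_toLin, alt_toLin]
    have h := htr k hk1 hk2
    constructor
    · rw [← h.1]; exact Matrix.trace_toLin'_eq _
    · rw [← h.2]; exact Matrix.trace_toLin'_eq _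

theorem isSquare_of_rat {k : ℕ} {x : ℝ} (hx : x * x = k) (hz : ∃ z : ℚ, x = z) : IsSquare k := by
  obtain ⟨z, rfl⟩ := hz
  have h1 : ((z * z : ℚ) : ℝ) = ((k : ℚ) : ℝ) := by push_cast; exact hx
  have h2 : z * z = (k : ℚ) := by exact_mod_cast h1
  exact Rat.isSquare_natCast_iff.1 ⟨z, h2.symm⟩

/-- **Feit–Higman, octagons.** -/
theorem isSquare_two_mul [Finite G] (hst : s ≠ t) (hS : P.S = {s, t})
    (hidx : ((P.B ⊓ P.N).subgroupOf P.N).index = 16) : IsSquare (2 * q P s * q P t) := by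
  obtain ⟨z, hz⟩ := rat_cos_BN hst hS (n := 4) (by omega) (by norm_num) 1 le_rfl (by norm_num)
  refine isSquare_of_rat ?_ ⟨z, hz⟩
  have e1 : π * ((1 : ℕ) : ℝ) / ((4 : ℕ) : ℝ) = π / 4 := by push_cast; ring
  rw [e1, cos_pi_div_four]
  have h1 : Real.sqrt ((q P s : ℝ) * (q P t : ℝ)) * Real.sqrt ((q P s : ℝ) * (q P t : ℝ)) =
      (q P s : ℝ) * (q P t : ℝ) := Real.mul_self_sqrt (by positivity)
  have h2 : Real.sqrt 2 * Real.sqrt 2 = 2 := Real.mul_self_sqrt (by norm_num)
  push_cast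
  calc 2 * √(↑(q P s) * ↑(q P t)) * (√2 / 2) * (2 * √(↑(q P s) * ↑(q P t)) * (√2 / 2))
      = (√(↑(q P s) * ↑(q P t)) * √(↑(q P s) * ↑(q P t))) * (√2 * √2) := by ring
    _ = 2 * ↑(q P s) * ↑(q P t) := by rw [h1, h2]; ring

/-- **Feit–Higman, hexagons.** -/
theorem isSquare_mul [Finite G] (hst : s ≠ t) (hS : P.S = {s, t})
    (hidx : ((P.B ⊓ P.N).subgroupOf P.N).index = 12) : IsSquare (q P s * q P t) := by
  obtain ⟨z, hz⟩ := rat_cos_BN hst hS (n := 3) (by omega) (by norm_num) 1 le_rfl (by norm_num)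
  refine isSquare_of_rat ?_ ⟨z, hz⟩
  have e1 : π * ((1 : ℕ) : ℝ) / ((3 : ℕ) : ℝ) = π / 3 := by push_cast; ring
  rw [e1, cos_pi_div_three]
  have h1 : Real.sqrt ((q P s : ℝ) * (q P t : ℝ)) * Real.sqrt ((q P s : ℝ) * (q P t : ℝ)) =
      (q P s : ℝ) * (q P t : ℝ) := Real.mul_self_sqrt (by positivity)
  push_cast
  calc 2 * √(↑(q P s) * ↑(q P t)) * (1 / 2) * (2 * √(↑(q P s) * ↑(q P t)) * (1 / 2))
      = (√(↑(q P s) * ↑(q P t)) * √(↑(q P s) * ↑(q P t))) := by ring
    _ = ↑(q P s) * ↑(q P t) := by rw [h1]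

end Cfsg.Agent.LieRecognition.FHSquare
end

-- part: H873/Tits/Facts
section
set_option linter.all false
open scoped Cfsg.Agent.FastGrp

-- part: H873/Tits/Defs
section
/-!
# S3414: strongly transitive thick generalized n-gons (n = 4, 6, 8) as graphs with paths

Common definitions of the team S3414.  Both vertex types are treated by ONE set of lemmas (`tp : V → Bool`).
-/

set_option autoImplicit false

namespace Cfsg.Agent.H873.Tits

universe u v

/-- `p 0, ..., p k` is a non-stammering path of length `k`. -/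
def IsPath {V : Type v} (adj : V → V → Prop) (k : ℕ) (p : ℕ → V) : Prop :=
  (∀ i, i < k → adj (p i) (p (i + 1))) ∧ ∀ i, i + 1 < k → p (i + 2) ≠ p i

/-- A strongly transitive thick generalized `n`-gon, `n = 4, 6, 8`, with a faithful type preserving action. -/
structure Pol (G : Type u) [Group G] (V : Type v) [MulAction G V] where
  n : ℕ
  hn : n = 4 ∨ n = 6 ∨ n = 8
  /-- valency minus one of the vertices of the given type -/
  q : Bool → ℕ
  two_le : ∀ b, 2 ≤ q b
  tp : V → Bool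
  adj : V → V → Prop
  nonempty : Nonempty V
  symm : ∀ {v w : V}, adj v w → adj w v
  tp_adj : ∀ {v w : V}, adj v w → tp w = !tp v
  smul_adj : ∀ (g : G) {v w : V}, adj v w → adj (g • v) (g • w)
  smul_tp : ∀ (g : G) (v : V), tp (g • v) = tp v
  card_nb : ∀ v : V, Nat.card {w : V // adj v w} = q (tp v) + 1
  exists_path : ∀ v w : V, ∃ k, k ≤ n ∧ ∃ p : ℕ → V, IsPath adj k p ∧ p 0 = v ∧ p k = w
  path_unique : ∀ {k l : ℕ} {p p' : ℕ → V}, IsPath adj k p → IsPath adj l p' → p 0 = p' 0 → p k = p' l →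
    k + l < 2 * n → k = l ∧ ∀ i, i ≤ k → p i = p' i
  trans : ∀ {k : ℕ} {p p' : ℕ → V}, k ≤ n + 1 → IsPath adj k p → IsPath adj k p' → tp (p 0) = tp (p' 0) →
    ∃ g : G, ∀ i, i ≤ k → g • p i = p' i
  faithful : ∀ g : G, (∀ v : V, g • v = v) → g = 1

namespace Pol

variable {G : Type u} [Group G] {V : Type v} [MulAction G V] (P : Pol G V)

/-- stabilizer of a vertex -/
abbrev S (_P : Pol G V) (v : V) : Subgroup G := MulAction.stabilizer G v

/-- the kernel of `S v` on the neighbours of `v` -/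
def K (v : V) : Subgroup G where
  carrier := {g | g • v = v ∧ ∀ w, P.adj v w → g • w = w}
  mul_mem' := by
    rintro a b ⟨ha, ha'⟩ ⟨hb, hb'⟩
    exact ⟨by rw [mul_smul, hb, ha], fun w hw => by rw [mul_smul, hb' w hw, ha' w hw]⟩
  one_mem' := ⟨one_smul _ _, fun w _ => one_smul _ _⟩
  inv_mem' := by
    rintro a ⟨ha, ha'⟩
    exact ⟨by rw [inv_smul_eq_iff, ha], fun w hw => by rw [inv_smul_eq_iff, ha' w hw]⟩

theorem mem_K {v : V} {g : G} : g ∈ P.K v ↔ g • v = v ∧ ∀ w, P.adj v w → g • w = w := Iff.rfl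

theorem K_le_S (v : V) : P.K v ≤ P.S v := fun _ h => h.1

theorem adj_smul_iff (g : G) {v w : V} : P.adj (g • v) (g • w) ↔ P.adj v w := by
  constructor
  · intro h
    have := P.smul_adj g⁻¹ h
    rwa [inv_smul_smul, inv_smul_smul] at this
  · exact P.smul_adj g

/-- opposite vertices: joined by a path of length `n` -/
def Opp (v w : V) : Prop := ∃ p : ℕ → V, IsPath P.adj P.n p ∧ p 0 = v ∧ p P.n = w

/-- the pointwise stabilizer of `p 0, ..., p k` -/
def PS (_P : Pol G V) (k : ℕ) (p : ℕ → V) : Subgroup G := ⨅ i : {i : ℕ // i ≤ k}, MulAction.stabilizer G (p i)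

/-- `H p`: pointwise stabilizer of a path of length `n + 1` (= stabilizer of the apartment) -/
def H (p : ℕ → V) : Subgroup G := P.PS (P.n + 1) p

/-- the action of `S v` on the neighbours of `v` -/
def toPerm (v : V) : P.S v →* Equiv.Perm {w : V // P.adj v w} where
  toFun g := ⟨fun w => ⟨(g : G) • w.1, by
      have := P.smul_adj (g : G) w.2
      rwa [show (g : G) • v = v from g.2] at this⟩, fun w => ⟨(g : G)⁻¹ • w.1, by
      have := P.smul_adj (g : G)⁻¹ w.2
      rwa [inv_smul_eq_iff.2 (show v = (g : G) • v from g.2.symm)] at this⟩,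
      fun w => Subtype.ext (inv_smul_smul _ _), fun w => Subtype.ext (smul_inv_smul _ _)⟩
  map_one' := by ext w; simp
  map_mul' a b := by ext w; simp [mul_smul]

@[simp] theorem toPerm_apply (v : V) (g : P.S v) (w : {w : V // P.adj v w}) :
    ((P.toPerm v g w : {w : V // P.adj v w}) : V) = (g : G) • (w : V) := rfl

/-- `img v X`: the permutation group induced by `X ⊓ S v` on the neighbours of `v` -/
def img (v : V) (X : Subgroup G) : Subgroup (Equiv.Perm {w : V // P.adj v w}) :=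
  (X.subgroupOf (P.S v)).map (P.toPerm v)

/-- the local permutation group `L v` on the neighbours of `v` -/
def L (v : V) : Subgroup (Equiv.Perm {w : V // P.adj v w}) := P.img v (P.S v)

/-- `L' v`: the group induced by `S v ⊓ S v'` (`v'` opposite `v`) -/
def L' (v v' : V) : Subgroup (Equiv.Perm {w : V // P.adj v w}) := P.img v (P.S v ⊓ P.S v')

/-- `idx v v' = |L v : L' v|` -/
noncomputable def idx (v v' : V) : ℕ := (P.L' v v').relIndex (P.L v)

/-- order of the two point stabilizer of `L v` at `y, z` -/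
noncomputable def T2 (v y z : V) : ℕ := Nat.card (P.img v (P.S y ⊓ P.S z))

end Pol

/-- `Aff L`: there is a regular abelian normal subgroup -/
def Aff {Ω : Type v} (L : Subgroup (Equiv.Perm Ω)) : Prop :=
  ∃ W : Subgroup (Equiv.Perm Ω), W ≤ L ∧ (W.subgroupOf L).Normal ∧ IsMulCommutative W ∧
    MulAction.IsPretransitive W Ω ∧ ∀ a : Ω, MulAction.stabilizer W a = ⊥

/-- Case (A) of the Thompson-Wielandt theorem. -/
structure CaseA {G : Type u} [Group G] {V : Type v} [MulAction G V] (P : Pol G V) (p : ℕ) : Prop where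
  prime : p.Prime
  /-- `E = K x ⊓ K y` is a `p`-group -/
  pgroup : ∀ {x y : V}, P.adj x y → IsPGroup p ↥(P.K x ⊓ P.K y)
  /-- for adjacent `x, y` there is a normal `p`-subgroup `Q` of `S y` with `Q ≤ K y`, `¬ Q ≤ K x` -/
  big : ∀ {x y : V}, P.adj x y → ∃ Q : Subgroup G, Q ≤ P.K y ∧ (Q.subgroupOf (P.S y)).Normal ∧ IsPGroup p ↥Q ∧ ¬ Q ≤ P.K x

/-- Case (B) of the Thompson-Wielandt theorem, at the vertices `y` of type `b`. -/
structure CaseB {G : Type u} [Group G] {V : Type v} [MulAction G V] (P : Pol G V) (b : Bool) : Prop where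
  /-- `E = K x ⊓ K y` is the kernel on the ball of radius two about `y` -/
  ball : ∀ {x y z : V}, P.tp y = b → P.adj x y → P.adj z y → P.K x ⊓ P.K y ≤ P.K z
  /-- `K y` acts semiregularly (modulo `E`) on the vertices at distance two from `y` -/
  semireg : ∀ {w x y : V}, P.tp y = b → P.adj x y → P.adj w x → w ≠ y → P.K y ⊓ P.S w ≤ P.K x

end Cfsg.Agent.H873.Tits
end

-- part: H873/Tits/Facts
section
/-!
# S3414: the list of geometric facts about a strongly transitive generalized polygon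

`structure Facts (P : Pol G V) : Prop`.  The geometry team proves `theorem facts (P : Pol G V) : Facts P`
(for finite `G`, `V`); all the other files take `(F : Facts P)` as a hypothesis.

Notation in the comments: `m = n / 2`, `x ~ y` adjacent, `s = q (tp x)`, `t = q (tp y)`, `i_x = idx x x'`,
`k_x = K x ⊓ H p`.
-/

set_option autoImplicit false

namespace Cfsg.Agent.H873.Tits

universe u v

variable {G : Type u} [Group G] {V : Type v} [MulAction G V]

/-- `w` is on a geodesic from `y` to the opposite vertex `y'` starting with `y, x, w` -/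
def Pol.Thru (P : Pol G V) (y x w y' : V) : Prop :=
  ∃ p : ℕ → V, IsPath P.adj P.n p ∧ p 0 = y ∧ p 1 = x ∧ p 2 = w ∧ p P.n = y'

structure Facts (P : Pol G V) : Prop where
  /-- `S v` is 2-transitive on the neighbours of `v` -/
  two_trans : ∀ {v a b a' b' : V}, P.adj v a → P.adj v b → a ≠ b → P.adj v a' → P.adj v b' → a' ≠ b' →
    ∃ g ∈ P.S v, g • a = a' ∧ g • b = b'
  /-- so is `S v ⊓ S v'`, `v'` opposite `v` -/
  two_trans' : ∀ {v v' a b a' b' : V}, P.Opp v v' → P.adj v a → P.adj v b → a ≠ b → P.adj v a' → P.adj v b' → a' ≠ b' →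
    ∃ g ∈ P.S v ⊓ P.S v', g • a = a' ∧ g • b = b'
  opp_symm : ∀ {v w : V}, P.Opp v w → P.Opp w v
  opp_tp : ∀ {v w : V}, P.Opp v w → P.tp w = P.tp v
  exists_opp : ∀ v : V, ∃ v', P.Opp v v'
  /-- every path of length `k ≤ n + 1` extends to a path of length `n + 1` -/
  extend : ∀ {k : ℕ} {p : ℕ → V}, k ≤ P.n + 1 → IsPath P.adj k p → ∃ p' : ℕ → V, IsPath P.adj (P.n + 1) p' ∧ ∀ i, i ≤ k → p' i = p i
  /-- every path `a - b - c` of length two is in the interior of a path of length `n + 1`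
  (at the places `1, 2, 3`) -/
  extend3 : ∀ {a b c : V}, P.adj a b → P.adj b c → a ≠ c → ∃ p : ℕ → V, IsPath P.adj (P.n + 1) p ∧ p 1 = a ∧ p 2 = b ∧ p 3 = c
  /-- PAIR TRANSITIVITY: `S x ⊓ S y ⊓ S z` is transitive on `(Γ(x) - y) × (Γ(z) - y)` -/
  pair_trans : ∀ {w x y z u w' u' : V}, P.adj x y → P.adj z y → x ≠ z → P.adj x w → w ≠ y → P.adj z u → u ≠ y →
    P.adj x w' → w' ≠ y → P.adj z u' → u' ≠ y → ∃ g ∈ P.S x ⊓ P.S y ⊓ P.S z, g • w = w' ∧ g • u = u'
  /-- the stabilizer of a path of length two `x - y - z` is transitive on `Γ(z) - y` etc.: transitivity on paths of length three -/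
  path_trans : ∀ {w x y z w' : V}, P.adj x y → P.adj z y → x ≠ z → P.adj x w → w ≠ y → P.adj x w' → w' ≠ y →
    ∃ g ∈ P.S x ⊓ P.S y ⊓ P.S z, g • w = w'
  /-- RIGIDITY -/
  rigid : ∀ {p : ℕ → V} {i : ℕ} {g : G}, IsPath P.adj (P.n + 1) p → i ≤ P.n → g ∈ P.K (p i) → g ∈ P.K (p (i + 1)) →
    g ∈ P.H p → g = 1
  /-- `K v ⊓ S v'` fixes all neighbours of `v'` -/
  K_opp : ∀ {v v' : V}, P.Opp v v' → P.K v ⊓ P.S v' ≤ P.K v'
  /-- it fixes every apartment through `v, v'` -/
  K_opp_H : ∀ {v v' : V} {p : ℕ → V}, IsPath P.adj P.n p → p 0 = v → p P.n = v' → P.K v ⊓ P.S v' ≤ P.PS P.n p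
  /-- `|K v ⊓ S v'| = |K v ⊓ H p|` for every vertex `v = p i` of the path -/
  card_k : ∀ {v v' : V} {p : ℕ → V} {i : ℕ}, P.Opp v v' → IsPath P.adj (P.n + 1) p → i ≤ P.n + 1 → p i = v →
    Nat.card ↥(P.K v ⊓ P.S v') = Nat.card ↥(P.K v ⊓ P.H p)
  /-- COUNT 1: `i_x |K x| = s^(m-1) t^m |k_x|` -/
  count_opp : ∀ {v v' : V}, P.Opp v v' → P.idx v v' * Nat.card ↥(P.K v) =
    P.q (P.tp v) ^ (P.n / 2 - 1) * P.q (!P.tp v) ^ (P.n / 2) * Nat.card ↥(P.K v ⊓ P.S v')
  /-- COUNT 2: `T_x |k_x| = i_x |H|` -/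
  count_T2 : ∀ {v v' : V} {p : ℕ → V} {i : ℕ}, P.Opp v v' → IsPath P.adj (P.n + 1) p → i + 2 ≤ P.n + 1 → p (i + 1) = v →
    P.T2 v (p i) (p (i + 2)) * Nat.card ↥(P.K v ⊓ P.H p) = P.idx v v' * Nat.card ↥(P.H p)
  /-- the index of `K x ⊓ S w` in `K x` divides `t`, where `x - y - w` is a path -/
  relIndex_dvd : ∀ {x y w : V}, P.adj x y → P.adj w y → x ≠ w → (P.K x ⊓ P.S w).relIndex (P.K x) ∣ P.q (P.tp y)
  /-- COUNT 3: `|K x ⊓ K w|_r ≤ (t^(m-1) s^(m-2))_r |k_x ⊓ K w|_r` for the path `x = p i, y = p (i+1), w = p (i+2)` -/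
  count_KK : ∀ {r : ℕ} {p : ℕ → V} {i : ℕ}, r.Prime → IsPath P.adj (P.n + 1) p → i + 2 ≤ P.n + 1 →
    (Nat.card ↥(P.K (p i) ⊓ P.K (p (i + 2)))).factorization r ≤
      (P.q (P.tp (p (i + 1))) ^ (P.n / 2 - 1) * P.q (P.tp (p i)) ^ (P.n / 2 - 2)).factorization r +
      (Nat.card ↥(P.K (p i) ⊓ P.K (p (i + 2)) ⊓ P.H p)).factorization r
  /-- COUNT 4 (consequence): `s_r |k_x|_r |K x ⊓ K w|_r ≤ |K x ⊓ S w|_r (i_x)_r |k_x ⊓ K w|_r` -/
  count_main : ∀ {r : ℕ} {p : ℕ → V} {i : ℕ} {x' : V}, r.Prime → IsPath P.adj (P.n + 1) p → i + 2 ≤ P.n + 1 → P.Opp (p i) x' →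
    (P.q (P.tp (p i))).factorization r + (Nat.card ↥(P.K (p i) ⊓ P.H p)).factorization r +
      (Nat.card ↥(P.K (p i) ⊓ P.K (p (i + 2)))).factorization r ≤
    (Nat.card ↥(P.K (p i) ⊓ P.S (p (i + 2)))).factorization r + (P.idx (p i) x').factorization r +
      (Nat.card ↥(P.K (p i) ⊓ P.K (p (i + 2)) ⊓ P.H p)).factorization r
  /-- fixed points: an element of `K y` without fixed vertices at distance two fixes only the vertex `y` of its type -/
  fix_unique : ∀ {y : V} {g : G}, g ∈ P.K y → (∀ x w, P.adj x y → P.adj x w → w ≠ y → g • w ≠ w) →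
    ∀ v, P.tp v = P.tp y → g • v = v → v = y
  /-- connectivity: a subgroup fixing `x`, `y` and normalized by `S x` and `S y` is trivial -/
  core : ∀ {x y : V} (X : Subgroup G), P.adj x y → X ≤ P.S x ⊓ P.S y →
    (∀ g ∈ P.S x, ∀ a ∈ X, g * a * g⁻¹ ∈ X) → (∀ g ∈ P.S y, ∀ a ∈ X, g * a * g⁻¹ ∈ X) → X = ⊥
  /-- projections -/
  proj_exists : ∀ {y x y' : V}, P.Opp y y' → P.adj y x → ∃ w, P.Thru y x w y'
  proj_opp : ∀ {y x w : V}, P.adj y x → P.adj x w → w ≠ y → ∃ y', P.Opp y y' ∧ P.Thru y x w y'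
  proj_fix : ∀ {y x w y' : V} {g : G}, P.Thru y x w y' → g ∈ P.S y → g ∈ P.S x → g ∈ P.S y' → g • w = w
  /-- in case (B): `|E|` divides `t^(m-1) s^(m-2)` -/
  caseB_card : ∀ {b : Bool} {x y : V}, CaseB P b → P.tp y = b → P.adj x y →
    Nat.card ↥(P.K x ⊓ P.K y) ∣ P.q b ^ (P.n / 2 - 1) * P.q (!b) ^ (P.n / 2 - 2)
  /-- in case (B): `k_y = 1` -/
  caseB_k : ∀ {b : Bool} {y y' : V}, CaseB P b → P.tp y = b → P.Opp y y' → P.K y ⊓ P.S y' = ⊥

/-- numerical conditions (Higman's inequality and the Feit-Higman conditions) for the parameters `q true`, `q false` -/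
structure Num (P : Pol G V) : Prop where
  hig48 : (P.n = 4 ∨ P.n = 8) → ∀ b, P.q b ≤ P.q (!b) ^ 2
  hig6 : P.n = 6 → ∀ b, P.q b ≤ P.q (!b) ^ 3
  fh4 : P.n = 4 → (P.q true + P.q false) ∣ 2 * P.q true * P.q false * (1 + P.q true) * (1 + P.q false)
  /-- `n = 6`: `s t = g ^ 2`, `(s + t ± g) ∣ g^2 (1+s) (1+t) (1 + g^2 ± g)` -/
  fh6 : P.n = 6 → ∃ g : ℕ, P.q true * P.q false = g ^ 2 ∧
    (P.q true + P.q false + g) ∣ g ^ 2 * (1 + P.q true) * (1 + P.q false) * (1 + g ^ 2 + g) ∧
    (P.q true + P.q false - g) ∣ g ^ 2 * (1 + P.q true) * (1 + P.q false) * (1 + g ^ 2 - g)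
  /-- `n = 8`: `2 s t = h ^ 2`, ... -/
  fh8 : P.n = 8 → ∃ h : ℕ, 2 * P.q true * P.q false = h ^ 2 ∧
    (P.q true + P.q false) ∣ P.q true * P.q false * (1 + P.q true) * (1 + P.q false) * (1 + (P.q true * P.q false) ^ 2) ∧
    2 * (P.q true + P.q false + h) ∣ P.q true * P.q false * (1 + P.q true) * (1 + P.q false) * (1 + P.q true * P.q false) *
      (1 + P.q true * P.q false + h) ∧
    2 * (P.q true + P.q false - h) ∣ P.q true * P.q false * (1 + P.q true) * (1 + P.q false) * (1 + P.q true * P.q false) *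
      (1 + P.q true * P.q false - h)

end Cfsg.Agent.H873.Tits
end
end

-- part: H95/Hig/Num
section
prune_inst 0x120000000000000000000000900000000804000000400000000000000000000000000000000000000000000000000000000000000000000000000000000000002080000000000000000000000000000000000000000000000
set_option linter.all false
open scoped Cfsg.Agent.FastGrp

/-!
# Numerical conditions for finite (B,N)-pairs of rank two

Higman's inequality and the Feit-Higman divisibility conditions.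
`Cfsg.Agent.H95.Hig.higman4`, `higman8`: `q s ≤ q t ^ 2` if the Weyl group has order 8 or 16 (`A`, `B` the adjacency
matrices of the chambers, `M = (1 + A) (Σ x^i (B A)^i) (1 + x B)`, `x = -1/t`, is a positive multiple of a projection, so
its third Schur power is positive semidefinite: `0 ≤ Σ M c d ^ 3`),
`Cfsg.Agent.H95.Hig.higman6`: `q s ≤ q t ^ 3` if it has order 12 (here `0 ≤ Σ M c d ^ 2 * E c d` for the projection `E` of
the point graph with eigenvalue `t - 1 - √(st)`),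
`Cfsg.Agent.H95.Hig.card_chambers`: the number of chambers,
`Cfsg.Agent.H95.Hig.fh_count`: the multiplicities of the two-dimensional representations are integers,
`Cfsg.Agent.H95.Hig.numN`: all conditions, `Cfsg.Agent.H95.Hig.num`: for the polygon of a (B,N)-pair.
-/

set_option autoImplicit false

namespace Cfsg.Agent.H95.Hig

section MatSec

open Matrix Cfsg.Agent.LieRecognition.FeitHigmanGroup

variable {ι : Type*} [Fintype ι]

/-! ### Schur products -/

theorem mul_eq_of_idem {M : Matrix ι ι ℝ} {κ : ℝ} (hM : Mᵀ = M) (hMM : M * M = κ • M) (c d : ι) :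
    κ * M c d = ∑ e, M c e * M d e := by
  have h := congrFun (congrFun hMM c) d
  rw [Matrix.smul_apply, smul_eq_mul, Matrix.mul_apply] at h
  rw [← h]
  refine Finset.sum_congr rfl fun e _ => ?_
  have h1 : Mᵀ e d = M d e := rfl
  rw [hM] at h1
  rw [h1]

/-- The Schur product of three projections is positive semidefinite. -/
theorem schur_nonneg {M E : Matrix ι ι ℝ} {κ lam : ℝ} (hκ : 0 < κ) (hl : 0 < lam)
    (hM : Mᵀ = M) (hE : Eᵀ = E) (hMM : M * M = κ • M) (hEE : E * E = lam • E) :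
    0 ≤ ∑ c, ∑ d, M c d * M c d * E c d := by
  have h1 : ∀ c d : ι, (κ * κ * lam) * (M c d * M c d * E c d) =
      ∑ e, ∑ f, ∑ g, (M c e * M c f * E c g) * (M d e * M d f * E d g) := by
    intro c d
    calc (κ * κ * lam) * (M c d * M c d * E c d) = (κ * M c d) * (κ * M c d) * (lam * E c d) := by ring
      _ = (∑ e, M c e * M d e) * (∑ f, M c f * M d f) * (∑ g, E c g * E d g) := by
        rw [← mul_eq_of_idem hM hMM, ← mul_eq_of_idem hE hEE]
      _ = _ := by
        rw [Finset.sum_mul_sum, Finset.sum_mul]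
        refine Finset.sum_congr rfl fun e _ => ?_
        rw [Finset.sum_mul]
        refine Finset.sum_congr rfl fun f _ => ?_
        rw [Finset.mul_sum]
        refine Finset.sum_congr rfl fun g _ => ?_
        ring
  have h2 : (κ * κ * lam) * ∑ c, ∑ d, M c d * M c d * E c d =
      ∑ e, ∑ f, ∑ g, (∑ c, M c e * M c f * E c g) ^ 2 := by
    rw [Finset.mul_sum]
    calc ∑ c, (κ * κ * lam) * ∑ d, M c d * M c d * E c d
        = ∑ c, ∑ d, ∑ e, ∑ f, ∑ g, (M c e * M c f * E c g) * (M d e * M d f * E d g) := by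
          refine Finset.sum_congr rfl fun c _ => ?_
          rw [Finset.mul_sum]
          exact Finset.sum_congr rfl fun d _ => h1 c d
      _ = ∑ c, ∑ e, ∑ d, ∑ f, ∑ g, (M c e * M c f * E c g) * (M d e * M d f * E d g) :=
          Finset.sum_congr rfl fun c _ => Finset.sum_comm
      _ = ∑ c, ∑ e, ∑ f, ∑ d, ∑ g, (M c e * M c f * E c g) * (M d e * M d f * E d g) :=
          Finset.sum_congr rfl fun c _ => Finset.sum_congr rfl fun e _ => Finset.sum_comm
      _ = ∑ c, ∑ e, ∑ f, ∑ g, ∑ d, (M c e * M c f * E c g) * (M d e * M d f * E d g) :=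
          Finset.sum_congr rfl fun c _ => Finset.sum_congr rfl fun e _ =>
            Finset.sum_congr rfl fun f _ => Finset.sum_comm
      _ = ∑ c, ∑ e, ∑ f, ∑ g, (M c e * M c f * E c g) * ∑ d, M d e * M d f * E d g := by
          simp_rw [Finset.mul_sum]
      _ = ∑ e, ∑ c, ∑ f, ∑ g, (M c e * M c f * E c g) * ∑ d, M d e * M d f * E d g :=
          Finset.sum_comm
      _ = ∑ e, ∑ f, ∑ c, ∑ g, (M c e * M c f * E c g) * ∑ d, M d e * M d f * E d g :=
          Finset.sum_congr rfl fun e _ => Finset.sum_comm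
      _ = ∑ e, ∑ f, ∑ g, ∑ c, (M c e * M c f * E c g) * ∑ d, M d e * M d f * E d g :=
          Finset.sum_congr rfl fun e _ => Finset.sum_congr rfl fun f _ => Finset.sum_comm
      _ = _ := by
          refine Finset.sum_congr rfl fun e _ => Finset.sum_congr rfl fun f _ =>
            Finset.sum_congr rfl fun g _ => ?_
          rw [← Finset.sum_mul, sq]
  have h3 : 0 ≤ (κ * κ * lam) * ∑ c, ∑ d, M c d * M c d * E c d := by
    rw [h2]
    exact Finset.sum_nonneg fun e _ => Finset.sum_nonneg fun f _ => Finset.sum_nonneg fun g _ => sq_nonneg _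
  exact nonneg_of_mul_nonneg_right h3 (by positivity)

theorem pos_of_diag {M : Matrix ι ι ℝ} {κ : ℝ} (hM : Mᵀ = M) (hMM : M * M = κ • M) {c : ι}
    (hc : M c c = 1) : 0 < κ := by
  have h := mul_eq_of_idem hM hMM c c
  rw [hc, mul_one] at h
  rw [h]
  have h1 : M c c * M c c ≤ ∑ e, M c e * M c e :=
    Finset.single_le_sum (f := fun e => M c e * M c e) (fun e _ => mul_self_nonneg _) (Finset.mem_univ c)
  rw [hc] at h1
  linarith

/-! ### Alternating words -/

section Alt

theorem alt_succ_right {R : Type*} [Monoid R] (k : ℕ) (a b : R) :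
    alt (k + 1) a b = alt k a b * (if Even k then a else b) := by
  induction k generalizing a b with
  | zero => rw [alt_one, alt_zero, one_mul, if_pos Even.zero]
  | succ k ih =>
    rw [alt_succ, ih, alt_succ k a b, mul_assoc]
    congr 2
    by_cases hk : Even k
    · rw [if_pos hk, if_neg (by simpa only [Nat.even_add_one, _root_.Nat.not_even_iff_odd, _root_.Nat.not_odd_iff_even] using hk)]
    · rw [if_neg hk, if_pos (Nat.even_add_one.2 hk)]

variable [DecidableEq ι]

theorem alt_transpose {A B : Matrix ι ι ℝ} (hA : Aᵀ = A) (hB : Bᵀ = B) (k : ℕ) :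
    (alt k A B)ᵀ = if Even k then alt k B A else alt k A B := by
  induction k generalizing A B with
  | zero => rw [alt_zero, alt_zero, Matrix.transpose_one, if_pos Even.zero]
  | succ k ih =>
    conv_lhs => rw [alt_succ_right, Matrix.transpose_mul, ih hA hB]
    by_cases hk : Even k
    · rw [if_pos hk, if_pos hk, if_neg (by simpa only [Nat.even_add_one, _root_.Nat.not_even_iff_odd, _root_.Nat.not_odd_iff_even] using hk), hA, alt_succ]
    · rw [if_neg hk, if_neg hk, if_pos (Nat.even_add_one.2 hk), hB, alt_succ]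

theorem alt_mulVec {A B : Matrix ι ι ℝ} {a b : ℝ} {v : ι → ℝ} (hA : A *ᵥ v = a • v) (hB : B *ᵥ v = b • v)
    (k : ℕ) : alt k A B *ᵥ v = alt k a b • v := by
  induction k generalizing A B a b with
  | zero => rw [alt_zero, alt_zero, Matrix.one_mulVec, one_smul]
  | succ k ih =>
    rw [alt_succ, ← Matrix.mulVec_mulVec, ih hB hA, Matrix.mulVec_smul, hA, smul_smul, alt_succ, mul_comm]

theorem alt_mul_smul {R : Type*} [Ring R] [Algebra ℝ R] {A B M : R} {a b : ℝ} (hA : A * M = a • M)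
    (hB : B * M = b • M) (k : ℕ) : alt k A B * M = alt k a b • M := by
  induction k generalizing A B a b with
  | zero => rw [alt_zero, alt_zero, one_mul, one_smul]
  | succ k ih =>
    rw [alt_succ, mul_assoc, ih hB hA, mul_smul_comm, hA, smul_smul, alt_succ, mul_comm]

end Alt

/-! ### The matrix `M` -/

section M

variable [DecidableEq ι] {A B : Matrix ι ι ℝ}

/-- `W k = (1 + A) * alt k B A` -/
noncomputable def W (A B : Matrix ι ι ℝ) (k : ℕ) : Matrix ι ι ℝ := (1 + A) * alt k B A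

/-- the multiple of the idempotent of the character `A ↦ s`, `B ↦ -1` -/
noncomputable def Mx (A B : Matrix ι ι ℝ) (x : ℝ) (n : ℕ) : Matrix ι ι ℝ :=
  ∑ k ∈ Finset.range n, x ^ ((k + 1) / 2) • W A B k

theorem Mx_left {s : ℝ} {x : ℝ} {n : ℕ} (hA : A * A = (s - 1) • A + s • (1 : Matrix ι ι ℝ)) :
    A * Mx A B x n = s • Mx A B x n := by
  have h0 : A * (1 + A) = s • (1 + A) := by
    rw [mul_add, mul_one, hA, smul_add, sub_smul, one_smul]
    abel
  unfold Mx W
  rw [Finset.mul_sum, Finset.smul_sum]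
  refine Finset.sum_congr rfl fun k _ => ?_
  rw [mul_smul_comm, ← mul_assoc, h0, smul_mul_assoc, smul_comm]

theorem Mx_eq {x : ℝ} {m : ℕ} :
    Mx A B x (2 * m) = ∑ k ∈ Finset.range (2 * m),
      (x ^ (k / 2) • alt k A B + x ^ ((k + 1) / 2) • alt k B A) + (x ^ m • alt (2 * m) A B - 1) := by
  unfold Mx W
  have h1 : ∀ k, x ^ ((k + 1) / 2) • ((1 + A) * alt k B A) =
      x ^ ((k + 1) / 2) • alt k B A + x ^ ((k + 1) / 2) • alt (k + 1) A B := by
    intro k
    rw [add_mul, one_mul, smul_add, ← alt_succ]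
  rw [Finset.sum_congr rfl fun k _ => h1 k, Finset.sum_add_distrib, Finset.sum_add_distrib]
  have h2 : ∑ k ∈ Finset.range (2 * m), x ^ ((k + 1) / 2) • alt (k + 1) A B =
      ∑ k ∈ Finset.range (2 * m), x ^ (k / 2) • alt k A B + (x ^ m • alt (2 * m) A B - 1) := by
    have h3 := Finset.sum_range_succ' (fun k => x ^ (k / 2) • alt k A B) (2 * m)
    rw [Finset.sum_range_succ] at h3
    have e1 : 2 * m / 2 = m := by omega
    rw [e1] at h3
    simp only [Nat.zero_div, pow_zero, one_smul, alt_zero] at h3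
    rw [add_sub, h3, add_sub_cancel_right]
  rw [h2]
  abel

theorem Mx_eq' {x : ℝ} {m : ℕ} (hbr : alt (2 * m) A B = alt (2 * m) B A) :
    Mx A B x (2 * m) = ∑ k ∈ Finset.range (2 * m), x ^ (k / 2) • ((1 + x • B) * alt k A B) := by
  rw [Mx_eq]
  have h1 : ∀ k, x ^ (k / 2) • ((1 + x • B) * alt k A B) =
      x ^ (k / 2) • alt k A B + x ^ ((k + 1 + 1) / 2) • alt (k + 1) B A := by
    intro k
    rw [add_mul, one_mul, smul_add, smul_mul_assoc, smul_smul, ← pow_succ, ← alt_succ,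
      show k / 2 + 1 = (k + 1 + 1) / 2 by omega]
  rw [Finset.sum_congr rfl fun k _ => h1 k, Finset.sum_add_distrib, Finset.sum_add_distrib]
  have h2 : ∑ k ∈ Finset.range (2 * m), x ^ ((k + 1 + 1) / 2) • alt (k + 1) B A =
      ∑ k ∈ Finset.range (2 * m), x ^ ((k + 1) / 2) • alt k B A + (x ^ m • alt (2 * m) A B - 1) := by
    have h3 := Finset.sum_range_succ' (fun k => x ^ ((k + 1) / 2) • alt k B A) (2 * m)
    rw [Finset.sum_range_succ] at h3
    have e1 : (2 * m + 1) / 2 = m := by omega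
    rw [e1, ← hbr] at h3
    have e2 : (0 + 1) / 2 = 0 := rfl
    rw [e2, pow_zero, one_smul, alt_zero] at h3
    rw [add_sub, h3, add_sub_cancel_right]
  rw [h2]
  abel

theorem Mx_right {t : ℝ} {x : ℝ} {m : ℕ} (hB : B * B = (t - 1) • B + t • (1 : Matrix ι ι ℝ))
    (hx : x * t = -1) (hbr : alt (2 * m) A B = alt (2 * m) B A) :
    B * Mx A B x (2 * m) = (-1 : ℝ) • Mx A B x (2 * m) := by
  have h0 : B * (1 + x • B) = (-1 : ℝ) • (1 + x • B) := by
    rw [mul_add, mul_one, mul_smul_comm, hB, smul_add, smul_smul, smul_smul, hx, mul_sub, hx]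
    module
  rw [Mx_eq' hbr, Finset.mul_sum, Finset.smul_sum]
  refine Finset.sum_congr rfl fun k _ => ?_
  rw [mul_smul_comm, ← mul_assoc, h0, smul_mul_assoc, smul_comm]

theorem Mx_transpose {x : ℝ} {m : ℕ} (hA : Aᵀ = A) (hB : Bᵀ = B)
    (hbr : alt (2 * m) A B = alt (2 * m) B A) : (Mx A B x (2 * m))ᵀ = Mx A B x (2 * m) := by
  rw [Mx_eq, Matrix.transpose_add, Matrix.transpose_sub, Matrix.transpose_smul, Matrix.transpose_one,
    alt_transpose hA hB, if_pos (even_two_mul m), ← hbr, Matrix.transpose_sum]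
  congr 1
  refine Finset.sum_congr rfl fun k _ => ?_
  rw [Matrix.transpose_add, Matrix.transpose_smul, Matrix.transpose_smul, alt_transpose hA hB,
    alt_transpose hB hA]
  by_cases hk : Even k
  · rw [if_pos hk, if_pos hk]
    obtain ⟨j, rfl⟩ := hk
    rw [show (j + j) / 2 = j by omega, show (j + j + 1) / 2 = j by omega, add_comm]
  · rw [if_neg hk, if_neg hk]

theorem exists_mul_self {s t : ℝ} {M : Matrix ι ι ℝ} (h1 : A * M = s • M) (h2 : B * M = t • M)
    (n : ℕ) (z : ℕ → ℝ) (hM : M = ∑ k ∈ Finset.range n, z k • W A B k) : ∃ κ : ℝ, M * M = κ • M := by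
  refine ⟨∑ k ∈ Finset.range n, z k * ((1 + s) * alt k t s), ?_⟩
  have h3 : ∀ k, W A B k * M = ((1 + s) * alt k t s) • M := by
    intro k
    unfold W
    rw [mul_assoc, alt_mul_smul h2 h1, mul_smul_comm, add_mul, one_mul, h1]
    module
  have h4 : M * M = (∑ k ∈ Finset.range n, z k • W A B k) * M := by rw [← hM]
  rw [h4, Finset.sum_mul, Finset.sum_smul]
  refine Finset.sum_congr rfl fun k _ => ?_
  rw [smul_mul_assoc, h3, smul_smul]

end M

/-! ### Disjoint 0-1-matrices -/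

theorem sum_mul_sum_disj {n : ℕ} {v : ℕ → ℝ}
    (hv : ∀ k, k < n → ∀ l, l < n → v k * v l = if k = l then v k else 0) (x y : ℕ → ℝ) :
    (∑ k ∈ Finset.range n, x k * v k) * (∑ k ∈ Finset.range n, y k * v k) =
      ∑ k ∈ Finset.range n, (x k * y k) * v k := by
  rw [Finset.sum_mul_sum]
  refine Finset.sum_congr rfl fun k hk => ?_
  rw [Finset.sum_eq_single_of_mem k hk]
  · have h := hv k (Finset.mem_range.1 hk) k (Finset.mem_range.1 hk)
    rw [if_pos rfl] at h
    calc x k * v k * (y k * v k) = (x k * y k) * (v k * v k) := by ring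
      _ = _ := by rw [h]
  · intro l hl hlk
    have h := hv k (Finset.mem_range.1 hk) l (Finset.mem_range.1 hl)
    rw [if_neg (Ne.symm hlk)] at h
    calc x k * v k * (y l * v l) = (x k * y l) * (v k * v l) := by ring
      _ = _ := by rw [h, mul_zero]

/-- The Krein inequality. -/
theorem krein {n : ℕ} {W : ℕ → Matrix ι ι ℝ} {ρ x e : ℕ → ℝ} [Nonempty ι] {κ lam : ℝ}
    (hW : ∀ c d k, k < n → ∀ l, l < n → W k c d * W l c d = if k = l then W k c d else 0)
    (hρ : ∀ k, k < n → W k *ᵥ (fun _ => 1) = ρ k • (fun _ => 1))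
    (hκ : 0 < κ) (hl : 0 < lam) {M E : Matrix ι ι ℝ} (hM : Mᵀ = M) (hE : Eᵀ = E)
    (hMM : M * M = κ • M) (hEE : E * E = lam • E)
    (hMx : M = ∑ k ∈ Finset.range n, x k • W k) (hEe : E = ∑ k ∈ Finset.range n, e k • W k) :
    0 ≤ ∑ k ∈ Finset.range n, x k * x k * e k * ρ k := by
  have h1 := schur_nonneg hκ hl hM hE hMM hEE
  have h2 : ∀ c d, M c d = ∑ k ∈ Finset.range n, x k * W k c d := by
    intro c d
    rw [hMx, Matrix.sum_apply]
    rfl
  have h3 : ∀ c d, E c d = ∑ k ∈ Finset.range n, e k * W k c d := by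
    intro c d
    rw [hEe, Matrix.sum_apply]
    rfl
  have h4 : ∀ c, ∑ d, M c d * M c d * E c d = ∑ k ∈ Finset.range n, x k * x k * e k * ρ k := by
    intro c
    have h5 : ∀ d, M c d * M c d * E c d = ∑ k ∈ Finset.range n, (x k * x k * e k) * W k c d := by
      intro d
      rw [h2, h3, sum_mul_sum_disj (hW c d), sum_mul_sum_disj (hW c d)]
    rw [Finset.sum_congr rfl fun d _ => h5 d, Finset.sum_comm]
    refine Finset.sum_congr rfl fun k hk => ?_
    rw [← Finset.mul_sum]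
    congr 1
    have h6 := congrFun (hρ k (Finset.mem_range.1 hk)) c
    rw [Matrix.mulVec, dotProduct] at h6
    simpa using h6
  rw [Finset.sum_congr rfl fun c _ => h4 c, Finset.sum_const, nsmul_eq_mul] at h1
  have h7 : (0 : ℝ) < (Finset.univ : Finset ι).card := by
    exact_mod_cast Finset.card_pos.2 Finset.univ_nonempty
  exact nonneg_of_mul_nonneg_right h1 h7

end MatSec

section IneqSec

open Matrix Cfsg Cfsg.Agent.LieRecognition.FeitHigmanGroup Cfsg.Agent.LieExceptional.BNPairCore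

variable {G : Type*} [Group G] {P : BNPair G} {s t : G}

theorem T_transpose (hs : s ∈ P.S) : (T P s)ᵀ = T P s := by
  classical
  ext x y
  rw [Matrix.transpose_apply, T_apply, T_apply]
  have h : R P s y x ↔ R P s x y := ⟨fun h => R_symm hs h, fun h => R_symm hs h⟩
  simp only [h]

theorem T_mulVec [Fintype (G ⧸ P.B)] (s : G) :
    T P s *ᵥ (fun _ => (1 : ℝ)) = (q P s : ℝ) • (fun _ => (1 : ℝ)) := by
  classical
  ext x
  rw [Matrix.mulVec, dotProduct, ← card_filter_R s x]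
  simp only [T_apply, mul_one, Pi.smul_apply, smul_eq_mul]
  rw [Finset.sum_boole]

theorem T_disj {w w' : G} (hw : w ∈ P.N) (hw' : w' ∈ P.N) (h : w⁻¹ * w' ∉ P.B) (c d : G ⧸ P.B) :
    T P w c d * T P w' c d = 0 := by
  classical
  rw [T_apply, T_apply]
  by_cases h1 : R P w c d
  · by_cases h2 : R P w' c d
    · exfalso
      induction c using QuotientGroup.induction_on with
      | H g =>
      induction d using QuotientGroup.induction_on with
      | H g' =>
        rw [R_mk_iff] at h1 h2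
        exact h (rel_of_C_eq hw hw' (C_eq_of_mem_mem h1 h2))
    · rw [if_neg h2, mul_zero]
  · rw [if_neg h1, zero_mul]

theorem T_self_mul (w : G) (c d : G ⧸ P.B) : T P w c d * T P w c d = T P w c d := by
  classical
  rw [T_apply]
  by_cases h1 : R P w c d
  · rw [if_pos h1, mul_one]
  · rw [if_neg h1, mul_zero]

section

variable [Fintype (G ⧸ P.B)] [DecidableEq (G ⧸ P.B)]

theorem W_apply (hs : s ∈ P.S) (ht : t ∈ P.S) {n k : ℕ} (hred : Red P s t n) (hk : k < n) (c d : G ⧸ P.B) :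
    W (T P s) (T P t) k c d = T P (alt k t s) c d + T P (alt (k + 1) s t) c d := by
  unfold W
  rw [add_mul, one_mul, ← alt_succ, alt_T ht hs (hred.of_le hs ht hk.le).2,
    alt_T hs ht (hred.of_le hs ht hk).1]
  rfl

theorem W_disj (hs : s ∈ P.S) (ht : t ∈ P.S) {n : ℕ} (hred : Red P s t n)
    (hne : ∀ k, 1 ≤ k → k < n → (alt k s t)⁻¹ * alt k t s ∉ P.B) (c d : G ⧸ P.B) (k : ℕ) (hk : k < n)
    (l : ℕ) (hl : l < n) : W (T P s) (T P t) k c d * W (T P s) (T P t) l c d =
      if k = l then W (T P s) (T P t) k c d else 0 := by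
  rw [W_apply hs ht hred hk, W_apply hs ht hred hl]
  have hN1 : ∀ j, alt j s t ∈ P.N := alt_mem_N hs ht
  have hN2 : ∀ j, alt j t s ∈ P.N := alt_mem_N ht hs
  have hr : ∀ j, j ≤ n → Red P s t j := fun j hj => hred.of_le hs ht hj
  have hmix : ∀ i j, i < n → j < n → (alt i t s)⁻¹ * alt (j + 1) s t ∉ P.B := by
    intro i j hi hj h
    have h1 := len_congr h
    rw [(hr i hi.le).2, (hr (j + 1) hj).1] at h1
    subst h1
    exact hne (j + 1) (by omega) hi (rel_symm h)
  have hmix' : ∀ i j, i < n → j < n → (alt (j + 1) s t)⁻¹ * alt i t s ∉ P.B := fun i j hi hj h =>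
    hmix i j hi hj (rel_symm h)
  by_cases hkl : k = l
  · subst hkl
    rw [if_pos rfl]
    have h1 := T_disj (hN2 k) (hN1 (k + 1)) (hmix k k hk hk) c d
    have h2 := T_self_mul (P := P) (alt k t s) c d
    have h3 := T_self_mul (P := P) (alt (k + 1) s t) c d
    linear_combination h2 + h3 + 2 * h1
  · rw [if_neg hkl]
    have h1 := T_disj (hN2 k) (hN1 (l + 1)) (hmix k l hk hl) c d
    have h2 := T_disj (hN1 (k + 1)) (hN2 l) (hmix' l k hl hk) c d
    have h3 : T P (alt k t s) c d * T P (alt l t s) c d = 0 := by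
      refine T_disj (hN2 k) (hN2 l) (fun h => hkl ?_) c d
      have h1 := len_congr h
      rwa [(hr k hk.le).2, (hr l hl.le).2] at h1
    have h4 : T P (alt (k + 1) s t) c d * T P (alt (l + 1) s t) c d = 0 := by
      refine T_disj (hN1 _) (hN1 _) (fun h => hkl ?_) c d
      have h1 := len_congr h
      rw [(hr (k + 1) hk).1, (hr (l + 1) hl).1] at h1
      omega
    linear_combination h1 + h2 + h3 + h4

theorem W_mulVec (k : ℕ) : W (T P s) (T P t) k *ᵥ (fun _ => (1 : ℝ)) =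
    ((1 + (q P s : ℝ)) * alt k (q P t : ℝ) (q P s : ℝ)) • (fun _ => (1 : ℝ)) := by
  unfold W
  rw [← Matrix.mulVec_mulVec, alt_mulVec (T_mulVec t) (T_mulVec s), Matrix.mulVec_smul, Matrix.add_mulVec,
    Matrix.one_mulVec, T_mulVec]
  module

theorem W_zero_diag (hs : s ∈ P.S) (ht : t ∈ P.S) {n : ℕ} (hred : Red P s t n) (hn : 0 < n)
    (c : G ⧸ P.B) : W (T P s) (T P t) 0 c c = 1 := by
  classical
  rw [W_apply hs ht hred hn, alt_zero, T_one, Matrix.one_apply_eq, T_apply, if_neg, add_zero]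
  apply R_irrefl
  rw [zero_add, alt_one]
  exact not_mem_B hs

/-- the diagonal of a combination of the `W k` -/
theorem sum_W_diag (hs : s ∈ P.S) (ht : t ∈ P.S) {n : ℕ} (hred : Red P s t n)
    (hne : ∀ k, 1 ≤ k → k < n → (alt k s t)⁻¹ * alt k t s ∉ P.B) (hn : 0 < n) (x : ℕ → ℝ) (hx : x 0 = 1)
    (c : G ⧸ P.B) : (∑ k ∈ Finset.range n, x k • W (T P s) (T P t) k) c c = 1 := by
  rw [Matrix.sum_apply, Finset.sum_eq_single_of_mem 0 (Finset.mem_range.2 hn)]
  · rw [Matrix.smul_apply, W_zero_diag hs ht hred hn, hx, smul_eq_mul, mul_one]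
  · intro k hk hk0
    have h1 := W_disj hs ht hred hne c c k (Finset.mem_range.1 hk) 0 hn
    rw [if_neg hk0, W_zero_diag hs ht hred hn, mul_one] at h1
    rw [Matrix.smul_apply, h1, smul_zero]

end

/-! ### The inequality for `n = 4, 8` -/

variable [Finite G]

/-- the square of the idempotent -/
theorem Mx_facts [Fintype (G ⧸ P.B)] [DecidableEq (G ⧸ P.B)] (hs : s ∈ P.S) (ht : t ∈ P.S) {m : ℕ} (hm : 0 < m)
    (hred : Red P s t (2 * m)) (hbr : (alt (2 * m) s t)⁻¹ * alt (2 * m) t s ∈ P.B)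
    (hne : ∀ k, 1 ≤ k → k < 2 * m → (alt k s t)⁻¹ * alt k t s ∉ P.B) :
    ∃ κ : ℝ, 0 < κ ∧ (Mx (T P s) (T P t) (-1 / (q P t : ℝ)) (2 * m))ᵀ = Mx (T P s) (T P t) (-1 / (q P t : ℝ)) (2 * m) ∧
      Mx (T P s) (T P t) (-1 / (q P t : ℝ)) (2 * m) * Mx (T P s) (T P t) (-1 / (q P t : ℝ)) (2 * m) =
        κ • Mx (T P s) (T P t) (-1 / (q P t : ℝ)) (2 * m) := by
  have hq : (q P t : ℝ) ≠ 0 := by
    have := two_le_q (P := P) ht
    positivity
  have hbr' : alt (2 * m) (T P s) (T P t) = alt (2 * m) (T P t) (T P s) := by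
    rw [alt_T hs ht hred.1, alt_T ht hs hred.2]
    exact T_congr hbr
  set x : ℝ := -1 / (q P t : ℝ) with hx
  have hxt : x * (q P t : ℝ) = -1 := by rw [hx]; field_simp
  have h1 := Mx_left (B := T P t) (x := x) (n := 2 * m) (T_sq (P := P) hs)
  have h2 := Mx_right (A := T P s) (T_sq (P := P) ht) hxt hbr'
  have h3 := Mx_transpose (x := x) (T_transpose hs) (T_transpose ht) hbr'
  obtain ⟨κ, hκ⟩ := exists_mul_self h1 h2 (2 * m) (fun k => x ^ ((k + 1) / 2)) rfl
  refine ⟨κ, ?_, h3, hκ⟩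
  refine pos_of_diag h3 hκ (c := ((1 : G) : G ⧸ P.B)) ?_
  exact sum_W_diag hs ht hred hne (by omega) _ (by simp) _

/-- the Krein inequality, `n = 2 m` -/
theorem krein_even (hs : s ∈ P.S) (ht : t ∈ P.S) {m : ℕ} (hm : 0 < m)
    (hred : Red P s t (2 * m)) (hbr : (alt (2 * m) s t)⁻¹ * alt (2 * m) t s ∈ P.B)
    (hne : ∀ k, 1 ≤ k → k < 2 * m → (alt k s t)⁻¹ * alt k t s ∉ P.B) :
    0 ≤ ∑ k ∈ Finset.range (2 * m), (-1 / (q P t : ℝ)) ^ ((k + 1) / 2) * (-1 / (q P t : ℝ)) ^ ((k + 1) / 2) *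
      (-1 / (q P t : ℝ)) ^ ((k + 1) / 2) * ((1 + (q P s : ℝ)) * alt k (q P t : ℝ) (q P s : ℝ)) := by
  classical
  have := Fintype.ofFinite (G ⧸ P.B)
  obtain ⟨κ, hκ, h1, h2⟩ := Mx_facts hs ht hm hred hbr hne
  exact krein (W_disj hs ht hred hne) (fun k _ => W_mulVec k) hκ hκ h1 h1 h2 h2 rfl rfl

/-- **Higman's inequality**, quadrangles. -/
theorem higman4 (hs : s ∈ P.S) (ht : t ∈ P.S)
    (hred : Red P s t 4) (hbr : (alt 4 s t)⁻¹ * alt 4 t s ∈ P.B)
    (hne : ∀ k, 1 ≤ k → k < 4 → (alt k s t)⁻¹ * alt k t s ∉ P.B) : q P s ≤ q P t ^ 2 := by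
  have h := krein_even hs ht (m := 2) (by omega) hred hbr hne
  have hq1 : (2 : ℝ) ≤ q P s := by exact_mod_cast two_le_q (P := P) hs
  have hq2 : (2 : ℝ) ≤ q P t := by exact_mod_cast two_le_q (P := P) ht
  rw [show 2 * 2 = 4 from rfl] at h
  simp only [Finset.sum_range_succ, Finset.sum_range_zero, alt_succ, alt_zero, Nat.reduceAdd, Nat.reduceDiv,
    pow_zero, pow_one, mul_one, zero_add, one_mul] at h
  set a : ℝ := (q P s : ℝ) with ha
  set b : ℝ := (q P t : ℝ) with hb'
  have h1 : (1 + a) + (-1 / b * (-1 / b) * (-1 / b) * ((1 + a) * b)) +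
      (-1 / b * (-1 / b) * (-1 / b) * ((1 + a) * (b * a))) +
      ((-1 / b) ^ 2 * (-1 / b) ^ 2 * (-1 / b) ^ 2 * ((1 + a) * (b * (a * b)))) =
      (1 + a) * (b ^ 2 - 1) / b ^ 4 * (b ^ 2 - a) := by
    field_simp
    ring
  have h2 : 0 ≤ (1 + a) * (b ^ 2 - 1) / b ^ 4 * (b ^ 2 - a) := by
    rw [← h1]
    exact h
  have h3 : 0 < (1 + a) * (b ^ 2 - 1) / b ^ 4 := by
    have : 0 < b ^ 2 - 1 := by nlinarith only [hq2]
    (clear * - hq2 this; positivity)
  have h4 : 0 ≤ b ^ 2 - a := nonneg_of_mul_nonneg_right h2 h3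
  have h5 : a ≤ b ^ 2 := by linarith only [h4]
  rw [ha, hb'] at h5
  exact_mod_cast h5

/-- **Higman's inequality**, octagons. -/
theorem higman8 (hs : s ∈ P.S) (ht : t ∈ P.S)
    (hred : Red P s t 8) (hbr : (alt 8 s t)⁻¹ * alt 8 t s ∈ P.B)
    (hne : ∀ k, 1 ≤ k → k < 8 → (alt k s t)⁻¹ * alt k t s ∉ P.B) : q P s ≤ q P t ^ 2 := by
  have h := krein_even hs ht (m := 4) (by omega) hred hbr hne
  have hq1 : (2 : ℝ) ≤ q P s := by exact_mod_cast two_le_q (P := P) hs
  have hq2 : (2 : ℝ) ≤ q P t := by exact_mod_cast two_le_q (P := P) ht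
  rw [show 2 * 4 = 8 from rfl] at h
  simp only [Finset.sum_range_succ, Finset.sum_range_zero, alt_succ, alt_zero, Nat.reduceAdd, Nat.reduceDiv,
    pow_zero, pow_one, mul_one, zero_add, one_mul] at h
  set a : ℝ := (q P s : ℝ) with ha
  set b : ℝ := (q P t : ℝ) with hb'
  have hb : b ≠ 0 := by positivity
  by_contra hcon
  have hcon' : b ^ 2 < a := by
    have : q P t ^ 2 < q P s := not_le.1 hcon
    rw [ha, hb']
    exact_mod_cast this
  refine absurd h (not_le.2 ?_)
  have h2 : (1 + a) * (b ^ 2 - 1) * (b ^ 2 - a) * (b ^ 4 + a ^ 2) / b ^ 8 < 0 := by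
    apply div_neg_of_neg_of_pos _ (by positivity)
    have e1 : 0 < b ^ 2 - 1 := by nlinarith only [hq2]
    have e2 : 0 < a - b ^ 2 := by linarith only [hcon']
    have e3 : 0 < (1 + a) * (b ^ 2 - 1) * (a - b ^ 2) * (b ^ 4 + a ^ 2) := by (clear * - hq2 hcon' e1; positivity)
    linarith only [e3]
  refine lt_of_eq_of_lt ?_ h2
  field_simp
  ring

end IneqSec

section HexSec

open Matrix Cfsg Cfsg.Agent.LieRecognition.FeitHigmanGroup Cfsg.Agent.LieExceptional.BNPairCore

section Alg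

variable {R : Type*} [Ring R] [Algebra ℝ R] {A B : R} {s t : ℝ}

theorem p_mul_p (hA : A * A = (s - 1) • A + s • (1 : R)) : (1 + A) * (1 + A) = (s + 1) • (1 + A) := by
  rw [mul_add, mul_one, add_mul, one_mul, hA]
  module

theorem p_mul_a (hA : A * A = (s - 1) • A + s • (1 : R)) : (1 + A) * A = s • (1 + A) := by
  rw [add_mul, one_mul, hA]
  module

theorem p_mul_bb {p : R} : p * ((t - 1) • B + t • (1 : R)) = (t - 1) • (p * B) + t • p := by
  rw [mul_add, mul_smul_comm, mul_smul_comm, mul_one]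

/-- `C1 * C1` -/
theorem rel11 (hA : A * A = (s - 1) • A + s • (1 : R)) (hB : B * B = (t - 1) • B + t • (1 : R)) :
    ((1 + A) * B * (1 + A)) * ((1 + A) * B * (1 + A)) =
      ((s + 1) * (s + 1) * t) • (1 + A) + ((s + 1) * (t - 1)) • ((1 + A) * B * (1 + A)) +
        (s + 1) • ((1 + A) * B * A * B * (1 + A)) := by
  have h1 := p_mul_p hA
  calc ((1 + A) * B * (1 + A)) * ((1 + A) * B * (1 + A))
      = (1 + A) * B * ((1 + A) * (1 + A)) * B * (1 + A) := by simp only [mul_assoc]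
    _ = (s + 1) • ((1 + A) * B * (1 + A) * B * (1 + A)) := by
      rw [h1]
      simp only [mul_smul_comm, smul_mul_assoc]
    _ = (s + 1) • ((1 + A) * (B * B) * (1 + A) + (1 + A) * B * A * B * (1 + A)) := by
      congr 1
      noncomm_ring
    _ = (s + 1) • ((t - 1) • ((1 + A) * B * (1 + A)) + t • ((1 + A) * (1 + A)) +
          (1 + A) * B * A * B * (1 + A)) := by
      rw [hB, p_mul_bb]
      congr 2
      generalize 1 + A = p
      simp only [add_mul, smul_mul_assoc]
    _ = _ := by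
      rw [h1]
      module

/-- `C1 * C2` -/
theorem rel12 (hA : A * A = (s - 1) • A + s • (1 : R)) (hB : B * B = (t - 1) • B + t • (1 : R))
    (hbr : A * B * A * B * A * B = B * A * B * A * B * A) :
    ((1 + A) * B * (1 + A)) * ((1 + A) * B * A * B * (1 + A)) =
      ((s + 1) * (s * t)) • ((1 + A) * B * (1 + A)) + ((s + 1) * (t - 1)) • ((1 + A) * B * A * B * (1 + A)) +
        ((s + 1) * (s + 1)) • ((1 + A) * B * A * B * A * B) := by
  have h1 := p_mul_p hA
  have h2 := p_mul_a hA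
  have h3 : (1 + A) * (B * A * B * A * B) * (1 + A) = (s + 1) • ((1 + A) * B * A * B * A * B) := by
    calc (1 + A) * (B * A * B * A * B) * (1 + A)
        = (1 + A) * (B * A * B * A * B + B * A * B * A * B * A) := by noncomm_ring
      _ = (1 + A) * (B * A * B * A * B + A * B * A * B * A * B) := by rw [hbr]
      _ = ((1 + A) * (1 + A)) * (B * A * B * A * B) := by noncomm_ring
      _ = _ := by
        rw [h1, smul_mul_assoc]
        simp only [mul_assoc]
  calc ((1 + A) * B * (1 + A)) * ((1 + A) * B * A * B * (1 + A))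
      = (1 + A) * B * ((1 + A) * (1 + A)) * B * A * B * (1 + A) := by simp only [mul_assoc]
    _ = (s + 1) • ((1 + A) * B * (1 + A) * B * A * B * (1 + A)) := by
      rw [h1]
      simp only [mul_smul_comm, smul_mul_assoc]
    _ = (s + 1) • ((1 + A) * (B * B) * A * B * (1 + A) + (1 + A) * (B * A * B * A * B) * (1 + A)) := by
      congr 1
      noncomm_ring
    _ = (s + 1) • ((t - 1) • ((1 + A) * B * A * B * (1 + A)) + t • (((1 + A) * A) * B * (1 + A)) +
          (s + 1) • ((1 + A) * B * A * B * A * B)) := by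
      rw [hB, h3, p_mul_bb]
      congr 2
      generalize 1 + A = p
      simp only [add_mul, smul_mul_assoc]
    _ = _ := by
      rw [h2]
      simp only [smul_mul_assoc]
      module

/-- `C1 * C3` -/
theorem rel13 (hA : A * A = (s - 1) • A + s • (1 : R)) (hB : B * B = (t - 1) • B + t • (1 : R))
    (hbr : A * B * A * B * A * B = B * A * B * A * B * A) :
    ((1 + A) * B * (1 + A)) * ((1 + A) * B * A * B * A * B) =
      ((s + 1) * (s * t)) • ((1 + A) * B * A * B * (1 + A)) +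
        ((s + 1) * (s + 1) * (t - 1)) • ((1 + A) * B * A * B * A * B) := by
  have h1 := p_mul_p hA
  have h2 := p_mul_a hA
  have h3 : (1 + A) * (B * A * B * A * B * A) * B =
      (s * (t - 1)) • ((1 + A) * B * A * B * A * B) + (s * t) • ((1 + A) * B * A * B * A) := by
    rw [← hbr]
    calc (1 + A) * (A * B * A * B * A * B) * B = ((1 + A) * A) * B * A * B * A * (B * B) := by
          simp only [mul_assoc]
      _ = s • ((1 + A) * B * A * B * A * ((t - 1) • B + t • (1 : R))) := by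
          rw [h2, hB]
          simp only [smul_mul_assoc]
      _ = _ := by
          rw [mul_add, mul_smul_comm, mul_smul_comm, mul_one]
          module
  calc ((1 + A) * B * (1 + A)) * ((1 + A) * B * A * B * A * B)
      = (1 + A) * B * ((1 + A) * (1 + A)) * B * A * B * A * B := by simp only [mul_assoc]
    _ = (s + 1) • ((1 + A) * B * (1 + A) * B * A * B * A * B) := by
      rw [h1]
      simp only [mul_smul_comm, smul_mul_assoc]
    _ = (s + 1) • ((1 + A) * (B * B) * A * B * A * B + (1 + A) * (B * A * B * A * B * A) * B) := by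
      congr 1
      noncomm_ring
    _ = (s + 1) • ((t - 1) • ((1 + A) * B * A * B * A * B) + t • (((1 + A) * A) * B * A * B) +
          ((s * (t - 1)) • ((1 + A) * B * A * B * A * B) + (s * t) • ((1 + A) * B * A * B * A))) := by
      rw [hB, h3, p_mul_bb]
      congr 2
      generalize 1 + A = p
      simp only [add_mul, smul_mul_assoc]
    _ = _ := by
      have h4 : (1 + A) * B * A * B * (1 + A) = (1 + A) * B * A * B + (1 + A) * B * A * B * A := by
        rw [mul_add, mul_one]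
      rw [h2, h4]
      simp only [smul_mul_assoc]
      module

/-- the multiple of the idempotent -/
theorem e_eigen {r u₁ u₂ u₃ : ℝ} (hA : A * A = (s - 1) • A + s • (1 : R)) (hB : B * B = (t - 1) • B + t • (1 : R))
    (hbr : A * B * A * B * A * B = B * A * B * A * B * A) (hr : r ≠ 0) (hrr : r * r = s * t)
    (h₁ : u₁ * (t * (s + 1)) = t - 1 - r) (h₂ : u₂ * (r * r) = -(r * u₁) - 1) (h₃ : u₃ * (r * r * r) = 1) :
    ((1 + A) * B * (1 + A)) * ((1 + A) + u₁ • ((1 + A) * B * (1 + A)) + u₂ • ((1 + A) * B * A * B * (1 + A)) +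
      u₃ • ((1 + A) * B * A * B * A * B)) =
    ((s + 1) * (t - 1 - r)) • ((1 + A) + u₁ • ((1 + A) * B * (1 + A)) + u₂ • ((1 + A) * B * A * B * (1 + A)) +
      u₃ • ((1 + A) * B * A * B * A * B)) := by
  have h1 := p_mul_p hA
  have h0 : ((1 + A) * B * (1 + A)) * (1 + A) = (s + 1) • ((1 + A) * B * (1 + A)) := by
    rw [mul_assoc _ (1 + A) (1 + A), h1, mul_smul_comm]
  rw [mul_add, mul_add, mul_add, mul_smul_comm, mul_smul_comm, mul_smul_comm, h0, rel11 hA hB,
    rel12 hA hB hbr, rel13 hA hB hbr]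
  have c0 : u₁ * ((s + 1) * (s + 1) * t) = (s + 1) * (t - 1 - r) := by
    linear_combination (s + 1) * h₁
  have c1 : (s + 1) + u₁ * ((s + 1) * (t - 1)) + u₂ * ((s + 1) * (s * t)) = (s + 1) * (t - 1 - r) * u₁ := by
    linear_combination (s + 1) * h₂ - u₂ * (s + 1) * hrr
  have c2 : u₁ * (s + 1) + u₂ * ((s + 1) * (t - 1)) + u₃ * ((s + 1) * (s * t)) =
      (s + 1) * (t - 1 - r) * u₂ := by
    have : r * (u₁ * (s + 1) + u₂ * ((s + 1) * (t - 1)) + u₃ * ((s + 1) * (s * t))) =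
        r * ((s + 1) * (t - 1 - r) * u₂) := by
      linear_combination (s + 1) * h₂ + (s + 1) * h₃ - r * u₃ * (s + 1) * hrr
    exact mul_left_cancel₀ hr this
  have c3 : u₂ * ((s + 1) * (s + 1)) + u₃ * ((s + 1) * (s + 1) * (t - 1)) = (s + 1) * (t - 1 - r) * u₃ := by
    have hr3 : r * r * r ≠ 0 := mul_ne_zero (mul_ne_zero hr hr) hr
    have : (r * r * r) * (u₂ * ((s + 1) * (s + 1)) + u₃ * ((s + 1) * (s + 1) * (t - 1))) =
        (r * r * r) * ((s + 1) * (t - 1 - r) * u₃) := by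
      linear_combination (s + 1) * (s + 1) * r * h₂ +
        ((s + 1) * (s + 1) * (t - 1) - (s + 1) * (t - 1 - r)) * h₃ - (s + 1) * (s + 1) * u₁ * hrr -
        (s + 1) * s * h₁
    exact mul_left_cancel₀ hr3 this
  calc (s + 1) • ((1 + A) * B * (1 + A)) +
        u₁ • (((s + 1) * (s + 1) * t) • (1 + A) + ((s + 1) * (t - 1)) • ((1 + A) * B * (1 + A)) +
          (s + 1) • ((1 + A) * B * A * B * (1 + A))) +
        u₂ • (((s + 1) * (s * t)) • ((1 + A) * B * (1 + A)) +
          ((s + 1) * (t - 1)) • ((1 + A) * B * A * B * (1 + A)) +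
          ((s + 1) * (s + 1)) • ((1 + A) * B * A * B * A * B)) +
        u₃ • (((s + 1) * (s * t)) • ((1 + A) * B * A * B * (1 + A)) +
          ((s + 1) * (s + 1) * (t - 1)) • ((1 + A) * B * A * B * A * B))
      = (u₁ * ((s + 1) * (s + 1) * t)) • (1 + A) +
        ((s + 1) + u₁ * ((s + 1) * (t - 1)) + u₂ * ((s + 1) * (s * t))) • ((1 + A) * B * (1 + A)) +
        (u₁ * (s + 1) + u₂ * ((s + 1) * (t - 1)) + u₃ * ((s + 1) * (s * t))) •
          ((1 + A) * B * A * B * (1 + A)) +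
        (u₂ * ((s + 1) * (s + 1)) + u₃ * ((s + 1) * (s + 1) * (t - 1))) •
          ((1 + A) * B * A * B * A * B) := by
        generalize (1 + A) * B * (1 + A) = X
        generalize (1 + A) * B * A * B * (1 + A) = Y
        generalize (1 + A) * B * A * B * A * B = Z
        generalize 1 + A = W
        module
    _ = _ := by
        rw [c0, c1, c2, c3]
        generalize (1 + A) * B * (1 + A) = X
        generalize (1 + A) * B * A * B * (1 + A) = Y
        generalize (1 + A) * B * A * B * A * B = Z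
        generalize 1 + A = W
        module

/-- if `C0`, `C1` act on `E` by scalars, so do `C2`, `C3` -/
theorem exists_smul_e {a b : ℝ} {E : R} (hs : s + 1 ≠ 0)
    (hA : A * A = (s - 1) • A + s • (1 : R)) (hB : B * B = (t - 1) • B + t • (1 : R))
    (hbr : A * B * A * B * A * B = B * A * B * A * B * A)
    (h0 : (1 + A) * E = a • E) (h1 : ((1 + A) * B * (1 + A)) * E = b • E) :
    (∃ c : ℝ, ((1 + A) * B * A * B * (1 + A)) * E = c • E) ∧
      ∃ d : ℝ, ((1 + A) * B * A * B * A * B) * E = d • E := by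
  have r11 := rel11 hA hB
  have r12 := rel12 hA hB hbr
  have h2 : ∃ c : ℝ, ((1 + A) * B * A * B * (1 + A)) * E = c • E := by
    refine ⟨(s + 1)⁻¹ * (b * b - (s + 1) * (s + 1) * t * a - (s + 1) * (t - 1) * b), ?_⟩
    have h3 : (s + 1) • (((1 + A) * B * A * B * (1 + A)) * E) =
        (b * b - (s + 1) * (s + 1) * t * a - (s + 1) * (t - 1) * b) • E := by
      have h4 : (((1 + A) * B * (1 + A)) * ((1 + A) * B * (1 + A))) * E = (b * b) • E := by
        rw [mul_assoc, h1, mul_smul_comm, h1, smul_smul]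
      rw [r11] at h4
      rw [add_mul, add_mul, smul_mul_assoc, smul_mul_assoc, smul_mul_assoc, h0, h1] at h4
      rw [← sub_eq_zero] at h4 ⊢
      rw [← h4]
      module
    rw [mul_smul, ← h3, smul_smul, inv_mul_cancel₀ hs, one_smul]
  refine ⟨h2, ?_⟩
  obtain ⟨c, hc⟩ := h2
  have hs2 : (s + 1) * (s + 1) ≠ 0 := mul_ne_zero hs hs
  refine ⟨((s + 1) * (s + 1))⁻¹ * (b * c - (s + 1) * (s * t) * b - (s + 1) * (t - 1) * c), ?_⟩
  have h3 : ((s + 1) * (s + 1)) • (((1 + A) * B * A * B * A * B) * E) =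
      (b * c - (s + 1) * (s * t) * b - (s + 1) * (t - 1) * c) • E := by
    have h4 : (((1 + A) * B * (1 + A)) * ((1 + A) * B * A * B * (1 + A))) * E = (b * c) • E := by
      rw [mul_assoc, hc, mul_smul_comm, h1, smul_smul, mul_comm]
    rw [r12] at h4
    rw [add_mul, add_mul, smul_mul_assoc, smul_mul_assoc, smul_mul_assoc, hc, h1] at h4
    rw [← sub_eq_zero] at h4 ⊢
    rw [← h4]
    module
  rw [mul_smul, ← h3, smul_smul, inv_mul_cancel₀ hs2, one_smul]

end Alg

/-! ### The final computation -/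

/-- the coefficients of the idempotent -/
noncomputable def ec (u₁ u₂ u₃ : ℝ) (k : ℕ) : ℝ :=
  if k = 0 then 1 else if k ≤ 2 then u₁ else if k ≤ 4 then u₂ else u₃

theorem num6 {s t r u₁ u₂ u₃ : ℝ} (hs : 0 < s) (ht : 1 < t) (hr : 0 < r) (hrr : r * r = s * t)
    (h₁ : u₁ * (t * (s + 1)) = t - 1 - r) (h₂ : u₂ * (r * r) = -(r * u₁) - 1) (h₃ : u₃ * (r * r * r) = 1)
    (h : 0 ≤ ∑ k ∈ Finset.range 6, (-1 / t) ^ ((k + 1) / 2) * (-1 / t) ^ ((k + 1) / 2) * ec u₁ u₂ u₃ k *
      ((1 + s) * alt k t s)) : r ≤ t ^ 2 := by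
  have ht0 : t ≠ 0 := by positivity
  have hs1 : s + 1 ≠ 0 := by positivity
  have hr0 : r ≠ 0 := hr.ne'
  simp only [Finset.sum_range_succ, Finset.sum_range_zero, alt_succ, alt_zero, Nat.reduceAdd, Nat.reduceDiv,
    pow_zero, pow_one, mul_one, zero_add, one_mul, ec, Nat.reduceLeDiff, if_true, if_false, le_refl,
    one_ne_zero, OfNat.ofNat_ne_zero, Nat.one_le_ofNat] at h
  have e1 : u₁ = (t - 1 - r) / (t * (s + 1)) := by rw [← h₁]; field_simp
  have e2 : u₂ = (-(r * u₁) - 1) / (r * r) := by rw [← h₂]; field_simp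
  have e3 : u₃ = 1 / (r * r * r) := by rw [← h₃]; field_simp
  have e4 : s = r * r / t := by rw [hrr]; field_simp
  have e5 : s + 1 = (r * r + t) / t := by rw [e4]; field_simp
  have hrt : r * r + t ≠ 0 := by positivity
  have key : (1 + s) * ((t ^ 2 - r) * (t + 1) ^ 2 * (t - 1) / t ^ 5) ≥ 0 := by
    refine le_of_le_of_eq h ?_
    rw [e3, e2, e1, e5, e4]
    field_simp
    ring
  have h5 : 0 ≤ (t ^ 2 - r) * ((1 + s) * (t + 1) ^ 2 * (t - 1) / t ^ 5) := by
    have : (t ^ 2 - r) * ((1 + s) * (t + 1) ^ 2 * (t - 1) / t ^ 5) =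
      (1 + s) * ((t ^ 2 - r) * (t + 1) ^ 2 * (t - 1) / t ^ 5) := by ring
    rw [this]
    exact key
  have h6 : 0 < (1 + s) * (t + 1) ^ 2 * (t - 1) / t ^ 5 := by
    have : 0 < t - 1 := by linarith only [ht]
    positivity
  have h7 : 0 ≤ t ^ 2 - r := nonneg_of_mul_nonneg_left h5 h6
  linarith only [h7]

section Mat

variable {ι : Type*} [Fintype ι] [DecidableEq ι]

theorem e_eq (A B : Matrix ι ι ℝ) (u₁ u₂ u₃ : ℝ) :
    ∑ k ∈ Finset.range 6, ec u₁ u₂ u₃ k • W A B k =
      (1 + A) + u₁ • ((1 + A) * B * (1 + A)) + u₂ • ((1 + A) * B * A * B * (1 + A)) +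
      u₃ • ((1 + A) * B * A * B * A * B) := by
  have h1 : (1 + A) * B * (1 + A) = (1 + A) * B + (1 + A) * B * A := by rw [mul_add _ 1 A, mul_one]
  have h2 : (1 + A) * B * A * B * (1 + A) = (1 + A) * B * A * B + (1 + A) * B * A * B * A := by
    rw [mul_add _ 1 A, mul_one]
  rw [h1, h2]
  simp only [Finset.sum_range_succ, Finset.sum_range_zero, W, alt_succ, alt_zero, mul_one, zero_add,
    ec, Nat.reduceLeDiff, if_true, if_false, le_refl, one_ne_zero, OfNat.ofNat_ne_zero, Nat.one_le_ofNat,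
    ← mul_assoc]
  generalize 1 + A = p
  module

theorem e_transpose {A B : Matrix ι ι ℝ} (hA : Aᵀ = A) (hB : Bᵀ = B)
    (hbr : A * B * A * B * A * B = B * A * B * A * B * A) (u₁ u₂ u₃ : ℝ) :
    ((1 + A) + u₁ • ((1 + A) * B * (1 + A)) + u₂ • ((1 + A) * B * A * B * (1 + A)) +
      u₃ • ((1 + A) * B * A * B * A * B))ᵀ =
    (1 + A) + u₁ • ((1 + A) * B * (1 + A)) + u₂ • ((1 + A) * B * A * B * (1 + A)) +
      u₃ • ((1 + A) * B * A * B * A * B) := by
  have h3 : B * (A * (B * (A * (B * (1 + A))))) = (1 + A) * B * A * B * A * B := by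
    calc B * (A * (B * (A * (B * (1 + A))))) = B * A * B * A * B + B * A * B * A * B * A := by noncomm_ring
      _ = B * A * B * A * B + A * B * A * B * A * B := by rw [hbr]
      _ = _ := by noncomm_ring
  simp only [Matrix.transpose_add, Matrix.transpose_smul, Matrix.transpose_mul, Matrix.transpose_one, hA, hB, h3]
  simp only [mul_assoc]

end Mat

variable {G : Type*} [Group G] {P : BNPair G} {s t : G} [Finite G]

/-- **Higman's inequality**, hexagons. -/
theorem higman6 (hs : s ∈ P.S) (ht : t ∈ P.S)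
    (hred : Red P s t 6) (hbr : (alt 6 s t)⁻¹ * alt 6 t s ∈ P.B)
    (hne : ∀ k, 1 ≤ k → k < 6 → (alt k s t)⁻¹ * alt k t s ∉ P.B) : q P s ≤ q P t ^ 3 := by
  classical
  have := Fintype.ofFinite (G ⧸ P.B)
  have hq1 : (2 : ℝ) ≤ (q P s : ℝ) := by exact_mod_cast two_le_q (P := P) hs
  have hq2 : (2 : ℝ) ≤ (q P t : ℝ) := by exact_mod_cast two_le_q (P := P) ht
  obtain ⟨κ, hκ, h1, h2⟩ := Mx_facts hs ht (m := 3) (by omega) hred hbr hne
  obtain ⟨r, hr, hrr⟩ : ∃ r : ℝ, 0 < r ∧ r * r = (q P s : ℝ) * (q P t : ℝ) :=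
    ⟨Real.sqrt ((q P s : ℝ) * (q P t : ℝ)), Real.sqrt_pos.2 (by (clear * - hq1 hq2; positivity)),
      Real.mul_self_sqrt (by positivity)⟩
  have hr0 : r ≠ 0 := hr.ne'
  have hs1 : (q P s : ℝ) + 1 ≠ 0 := by positivity
  have ht0 : (q P t : ℝ) ≠ 0 := by positivity
  set u₁ : ℝ := ((q P t : ℝ) - 1 - r) / ((q P t : ℝ) * ((q P s : ℝ) + 1)) with hu₁
  set u₂ : ℝ := (-(r * u₁) - 1) / (r * r) with hu₂
  set u₃ : ℝ := 1 / (r * r * r) with hu₃
  have k₁ : u₁ * ((q P t : ℝ) * ((q P s : ℝ) + 1)) = (q P t : ℝ) - 1 - r := by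
    rw [hu₁]; field_simp
  have k₂ : u₂ * (r * r) = -(r * u₁) - 1 := by
    rw [hu₂]; field_simp
  have k₃ : u₃ * (r * r * r) = 1 := by
    rw [hu₃]; field_simp
  have hbr' : T P s * T P t * T P s * T P t * T P s * T P t =
      T P t * T P s * T P t * T P s * T P t * T P s := by
    have h := alt_T hs ht hred.1
    have h' := alt_T ht hs hred.2
    rw [T_congr hbr, ← h'] at h
    simpa only [alt_succ, alt_zero, mul_one, ← mul_assoc] using h
  have hA := T_sq (P := P) hs
  have hB := T_sq (P := P) ht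
  have he := e_eigen hA hB hbr' hr0 hrr k₁ k₂ k₃
  have het := e_transpose (T_transpose hs) (T_transpose ht) hbr' u₁ u₂ u₃
  rw [← e_eq] at he het
  set E := ∑ k ∈ Finset.range 6, ec u₁ u₂ u₃ k • W (T P s) (T P t) k with hE
  have h0 : (1 + T P s) * E = ((q P s : ℝ) + 1) • E := by
    rw [hE, Finset.mul_sum, Finset.smul_sum]
    refine Finset.sum_congr rfl fun k _ => ?_
    unfold W
    rw [mul_smul_comm, ← mul_assoc, p_mul_p hA, smul_mul_assoc, smul_comm]
  obtain ⟨⟨c, hc⟩, d, hd⟩ := exists_smul_e hs1 hA hB hbr' h0 he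
  have hEE : ∃ lam : ℝ, E * E = lam • E := by
    refine ⟨((q P s : ℝ) + 1) + u₁ * (((q P s : ℝ) + 1) * ((q P t : ℝ) - 1 - r)) + u₂ * c + u₃ * d, ?_⟩
    have h5 : E * E = ((1 + T P s) + u₁ • ((1 + T P s) * T P t * (1 + T P s)) +
      u₂ • ((1 + T P s) * T P t * T P s * T P t * (1 + T P s)) +
      u₃ • ((1 + T P s) * T P t * T P s * T P t * T P s * T P t)) * E := by
      rw [← e_eq]
    rw [h5, add_mul _ _ E, add_mul _ _ E, add_mul _ _ E, h0, smul_mul_assoc, smul_mul_assoc, smul_mul_assoc,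
      he, hc, hd]
    module
  obtain ⟨lam, hlam⟩ := hEE
  have hdiag : E ((1 : G) : G ⧸ P.B) ((1 : G) : G ⧸ P.B) = 1 :=
    sum_W_diag hs ht hred hne (by omega) _ (by simp [ec]) _
  have hl : 0 < lam := pos_of_diag het hlam hdiag
  have h := krein (W_disj hs ht hred hne) (fun k _ => W_mulVec k) hκ hl h1 het h2 hlam rfl hE
  have h6 : r ≤ (q P t : ℝ) ^ 2 := num6 (by (clear * - hq1; positivity)) (by linarith only [hq2]) hr hrr k₁ k₂ k₃ h
  have h7 : r * r ≤ (q P t : ℝ) ^ 2 * (q P t : ℝ) ^ 2 := mul_le_mul h6 h6 hr.le (by (clear * - hq2; positivity))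
  rw [hrr] at h7
  have h8 : (q P s : ℝ) * (q P t : ℝ) ≤ (q P t : ℝ) ^ 3 * (q P t : ℝ) := by
    refine h7.trans (le_of_eq ?_)
    ring
  have h9 : (q P s : ℝ) ≤ (q P t : ℝ) ^ 3 := le_of_mul_le_mul_right h8 (by (clear * - hq2; positivity))
  exact_mod_cast h9

end HexSec

section FHSec

open Matrix Cfsg Cfsg.Agent.LieRecognition.FeitHigmanGroup Cfsg.Agent.LieExceptional.BNPairCore

variable {G : Type*} [Group G] {P : BNPair G} {s t : G}

/-! ### The number of chambers -/

theorem len_le_max (hS : P.S = {s, t}) {n : ℕ} (hn : 1 ≤ n)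
    (hbraid : (alt n s t)⁻¹ * alt n t s ∈ P.B) : ∀ k, ∀ w ∈ P.N, len P w = k → k ≤ n := by
  have hs : s ∈ P.S := by rw [hS]; simp
  have ht : t ∈ P.S := by rw [hS]; simp
  intro k
  induction k with
  | zero => intro w _ _; exact Nat.zero_le _
  | succ k ih =>
    intro w hw hk
    rcases exists_alt hS hw with h1 | h1
    · rw [hk] at h1
      have h2 := len_congr h1
      rw [hk] at h2
      have h3 := ih _ (alt_mem_N ht hs k) (len_alt_pred hs ht h2)
      rcases Nat.lt_or_ge k n with h4 | h4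
      · omega
      · have : k = n := by omega
        subst this
        exact absurd h2 (not_red_of_braid hs ht hn hbraid)
    · rw [hk] at h1
      have h2 := len_congr h1
      rw [hk] at h2
      have h3 := ih _ (alt_mem_N hs ht k) (len_alt_pred ht hs h2)
      rcases Nat.lt_or_ge k n with h4 | h4
      · omega
      · have : k = n := by omega
        subst this
        exact absurd h2 (not_red_of_braid ht hs hn (rel_symm hbraid))

theorem exists_word_lt (hS : P.S = {s, t}) {n : ℕ} (hn : 1 ≤ n)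
    (hbraid : (alt n s t)⁻¹ * alt n t s ∈ P.B) {w : G} (hw : w ∈ P.N) :
    ∃ k, k < n ∧ ((alt k t s)⁻¹ * w ∈ P.B ∨ (alt (k + 1) s t)⁻¹ * w ∈ P.B) := by
  have hle := len_le_max hS hn hbraid _ w hw rfl
  rcases exists_alt hS hw with h1 | h1
  · rcases Nat.eq_zero_or_pos (len P w) with h0 | h0
    · rw [h0, alt_zero] at h1
      exact ⟨0, hn, Or.inl (by rwa [alt_zero])⟩
    · obtain ⟨j, hj⟩ : ∃ j, len P w = j + 1 := ⟨len P w - 1, by omega⟩
      rw [hj] at h1 hle
      exact ⟨j, hle, Or.inr h1⟩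
  · rcases Nat.lt_or_ge (len P w) n with h2 | h2
    · exact ⟨len P w, h2, Or.inl h1⟩
    · have h3 : len P w = n := by omega
      rw [h3] at h1
      refine ⟨n - 1, by omega, Or.inr ?_⟩
      rw [Nat.sub_add_cancel hn]
      exact rel_trans hbraid h1

theorem sum_W_eq_one [Fintype (G ⧸ P.B)] [DecidableEq (G ⧸ P.B)] (hS : P.S = {s, t}) {n : ℕ} (hn : 1 ≤ n)
    (hred : Red P s t n) (hbraid : (alt n s t)⁻¹ * alt n t s ∈ P.B)
    (hne : ∀ k, 1 ≤ k → k < n → (alt k s t)⁻¹ * alt k t s ∉ P.B) (c d : G ⧸ P.B) :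
    ∑ k ∈ Finset.range n, W (T P s) (T P t) k c d = 1 := by
  classical
  have hs : s ∈ P.S := by rw [hS]; simp
  have ht : t ∈ P.S := by rw [hS]; simp
  obtain ⟨k, hk, hk'⟩ : ∃ k, k < n ∧ W (T P s) (T P t) k c d ≠ 0 := by
    induction c using QuotientGroup.induction_on with
    | H g =>
    induction d using QuotientGroup.induction_on with
    | H g' =>
      obtain ⟨w, hw, hwC⟩ := bruhat (P := P) (g⁻¹ * g')
      obtain ⟨k, hk, h⟩ := exists_word_lt hS hn hbraid hw
      refine ⟨k, hk, ?_⟩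
      rw [W_apply hs ht hred hk, T_apply, T_apply, R_mk_iff, R_mk_iff]
      rcases h with h | h
      · rw [if_pos (show g⁻¹ * g' ∈ C P (alt k t s) by rw [C_eq_of_rel h]; exact hwC)]
        split_ifs <;> norm_num
      · rw [if_pos (show g⁻¹ * g' ∈ C P (alt (k + 1) s t) by rw [C_eq_of_rel h]; exact hwC)]
        split_ifs <;> norm_num
  have h1 : W (T P s) (T P t) k c d = 1 := by
    have h := W_disj hs ht hred hne c d k hk k hk
    rw [if_pos rfl] at h
    exact mul_left_cancel₀ hk' (by rw [h, mul_one])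
  rw [Finset.sum_eq_single_of_mem k (Finset.mem_range.2 hk), h1]
  intro l hl hlk
  have h := W_disj hs ht hred hne c d k hk l (Finset.mem_range.1 hl)
  rw [if_neg (Ne.symm hlk), h1, one_mul] at h
  exact h

/-- The number of chambers. -/
theorem card_chambers [Finite G] (hS : P.S = {s, t}) {n : ℕ} (hn : 1 ≤ n)
    (hred : Red P s t n) (hbraid : (alt n s t)⁻¹ * alt n t s ∈ P.B)
    (hne : ∀ k, 1 ≤ k → k < n → (alt k s t)⁻¹ * alt k t s ∉ P.B) :
    (Nat.card (G ⧸ P.B) : ℝ) = ∑ k ∈ Finset.range n, (1 + (q P s : ℝ)) * alt k (q P t : ℝ) (q P s : ℝ) := by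
  classical
  have := Fintype.ofFinite (G ⧸ P.B)
  have h1 : (Nat.card (G ⧸ P.B) : ℝ) = ∑ d : G ⧸ P.B, (1 : ℝ) := by
    rw [Finset.sum_const, nsmul_eq_mul, mul_one, Nat.card_eq_fintype_card]
    rfl
  rw [h1, Finset.sum_congr rfl fun d _ => (sum_W_eq_one hS hn hred hbraid hne ((1 : G) : G ⧸ P.B) d).symm,
    Finset.sum_comm]
  refine Finset.sum_congr rfl fun k _ => ?_
  have h := congrFun (W_mulVec (P := P) (s := s) (t := t) k) ((1 : G) : G ⧸ P.B)
  rw [Matrix.mulVec, dotProduct] at h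
  simpa using h

/-! ### Integrality -/

theorem fh_count [Finite G] (hs : s ∈ P.S) (ht : t ∈ P.S) {m : ℕ} (hm : 2 ≤ m)
    (hred : Red P s t (2 * m)) (hbraid : (alt (2 * m) s t)⁻¹ * alt (2 * m) t s ∈ P.B)
    {y : ℝ} (hy : LieRecognition.FeitHigmanLin.S ((q P s : ℝ) * (q P t : ℝ)) y m = 0)
    (hy1 : y ≠ 1 + (q P s : ℝ) * (q P t : ℝ)) (hy2 : y ≠ -((q P s : ℝ) + (q P t : ℝ))) :
    ∃ D : ℕ, (D : ℝ) * m * ((1 + (q P s : ℝ) * (q P t : ℝ) - y) * ((q P s : ℝ) + (q P t : ℝ) + y)) =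
      (Nat.card (G ⧸ P.B) : ℝ) * (4 * ((q P s : ℝ) * (q P t : ℝ)) - y ^ 2) := by
  classical
  have := Fintype.ofFinite (G ⧸ P.B)
  have hq1 : 2 ≤ q P s := two_le_q hs
  have hq2 : 2 ≤ q P t := two_le_q ht
  have hbr : alt (2 * m) (T P s) (T P t) = alt (2 * m) (T P t) (T P s) := by
    rw [alt_T hs ht hred.1, alt_T ht hs hred.2]
    exact T_congr hbraid
  have htr : ∀ k, 1 ≤ k → k ≤ 2 * m → (alt k (T P s) (T P t)).trace = 0 ∧ (alt k (T P t) (T P s)).trace = 0 := by
    intro k hk1 hkn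
    have h1 := hred.of_le hs ht hkn
    rw [alt_T hs ht h1.1, alt_T ht hs h1.2]
    constructor
    · apply trace_T
      intro h
      have h3 := (len_eq_zero_iff (alt_mem_N hs ht k)).2 h
      rw [h1.1] at h3
      omega
    · apply trace_T
      intro h
      have h3 := (len_eq_zero_iff (alt_mem_N ht hs k)).2 h
      rw [h1.2] at h3
      omega
  obtain ⟨D, hD⟩ := LieRecognition.FeitHigmanLin.even_eq (V := (G ⧸ P.B) → ℝ)
    (a := Matrix.toLinAlgEquiv' (T P s)) (b := Matrix.toLinAlgEquiv' (T P t)) (s := q P s) (t := q P t)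
    (by exact_mod_cast hq1) (by exact_mod_cast hq2)
    (by rw [← map_mul, T_sq hs, map_add, map_smul, map_smul, map_one])
    (by rw [← map_mul, T_sq ht, map_add, map_smul, map_smul, map_one]) hm
    (by rw [← LieRecognition.FeitHigmanLin.alt_two_mul, ← LieRecognition.FeitHigmanLin.alt_two_mul,
          LieRecognition.FHSquare.alt_toLin, LieRecognition.FHSquare.alt_toLin, hbr])
    (by
      intro k hk1 hk2
      rw [LieRecognition.FHSquare.alt_toLin, LieRecognition.FHSquare.alt_toLin]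
      have h := htr k hk1 hk2
      constructor
      · rw [← h.1]; exact Matrix.trace_toLin'_eq _
      · rw [← h.2]; exact Matrix.trace_toLin'_eq _) hy hy1 hy2
  refine ⟨D, ?_⟩
  rw [hD, Module.finrank_fintype_fun_eq_card, Nat.card_eq_fintype_card]

end FHSec

section NumSec

open Cfsg Cfsg.Agent.LieRecognition.FeitHigmanGroup Cfsg.Agent.LieExceptional.BNPairCore

/-- the numerical conditions for a finite generalized `n`-gon, `n = 4, 6, 8`, with parameters `a`, `b` -/
structure NumN (n a b : ℕ) : Prop where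
  hig48 : (n = 4 ∨ n = 8) → a ≤ b ^ 2 ∧ b ≤ a ^ 2
  hig6 : n = 6 → a ≤ b ^ 3 ∧ b ≤ a ^ 3
  fh4 : n = 4 → (a + b) ∣ 2 * a * b * (1 + a) * (1 + b)
  fh6 : n = 6 → ∃ g : ℕ, a * b = g ^ 2 ∧ (a + b + g) ∣ g ^ 2 * (1 + a) * (1 + b) * (1 + g ^ 2 + g) ∧
    (a + b - g) ∣ g ^ 2 * (1 + a) * (1 + b) * (1 + g ^ 2 - g)
  fh8 : n = 8 → ∃ h : ℕ, 2 * a * b = h ^ 2 ∧ (a + b) ∣ a * b * (1 + a) * (1 + b) * (1 + (a * b) ^ 2) ∧
    2 * (a + b + h) ∣ a * b * (1 + a) * (1 + b) * (1 + a * b) * (1 + a * b + h) ∧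
    2 * (a + b - h) ∣ a * b * (1 + a) * (1 + b) * (1 + a * b) * (1 + a * b - h)

variable {G : Type*} [Group G] {P : BNPair G} {s t : G}

theorem sum4 (a b : ℝ) : ∑ k ∈ Finset.range 4, (1 + a) * alt k b a = (1 + a) * (1 + b) * (1 + a * b) := by
  simp only [Finset.sum_range_succ, Finset.sum_range_zero, alt_succ, alt_zero]
  ring

theorem sum6 (a b : ℝ) : ∑ k ∈ Finset.range 6, (1 + a) * alt k b a =
    (1 + a) * (1 + b) * (1 + a * b + (a * b) ^ 2) := by
  simp only [Finset.sum_range_succ, Finset.sum_range_zero, alt_succ, alt_zero]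
  ring

theorem sum8 (a b : ℝ) : ∑ k ∈ Finset.range 8, (1 + a) * alt k b a =
    (1 + a) * (1 + b) * (1 + a * b) * (1 + (a * b) ^ 2) := by
  simp only [Finset.sum_range_succ, Finset.sum_range_zero, alt_succ, alt_zero]
  ring

section

variable [Finite G] (hS : P.S = {s, t})

include hS

theorem fh4_aux (hred : Red P s t 4) (hbraid : (alt 4 s t)⁻¹ * alt 4 t s ∈ P.B)
    (hne : ∀ k, 1 ≤ k → k < 4 → (alt k s t)⁻¹ * alt k t s ∉ P.B) :
    (q P s + q P t) ∣ 2 * q P s * q P t * (1 + q P s) * (1 + q P t) := by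
  have hs : s ∈ P.S := by rw [hS]; simp
  have ht : t ∈ P.S := by rw [hS]; simp
  have hq1 : (2 : ℝ) ≤ (q P s : ℝ) := by exact_mod_cast two_le_q (P := P) hs
  have hq2 : (2 : ℝ) ≤ (q P t : ℝ) := by exact_mod_cast two_le_q (P := P) ht
  have hN := card_chambers hS (by norm_num) hred hbraid hne
  rw [sum4] at hN
  obtain ⟨D, hD⟩ := fh_count hs ht (m := 2) le_rfl hred hbraid (y := 0)
    (by rw [LieRecognition.FeitHigmanLin.S_two]) (by (clear * - hq1 hq2; positivity)) (by
      have : 0 < (q P s : ℝ) + (q P t : ℝ) := by positivity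
      linarith)
  rw [hN] at hD
  generalize hx : (q P s : ℝ) = a at *
  generalize hy : (q P t : ℝ) = b at *
  have h1 : (a + b) * (D : ℝ) = 2 * a * b * (1 + a) * (1 + b) := by
    have h2 : (2 * (1 + a * b)) * ((a + b) * (D : ℝ)) = (2 * (1 + a * b)) * (2 * a * b * (1 + a) * (1 + b)) := by
      push_cast at hD
      linear_combination hD
    exact mul_left_cancel₀ (by positivity) h2
  rw [← hx, ← hy] at h1
  refine ⟨D, ?_⟩
  symm
  exact_mod_cast h1

theorem fh6_aux (hred : Red P s t 6) (hbraid : (alt 6 s t)⁻¹ * alt 6 t s ∈ P.B)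
    (hne : ∀ k, 1 ≤ k → k < 6 → (alt k s t)⁻¹ * alt k t s ∉ P.B) {g : ℕ} (hg : q P s * q P t = g ^ 2) :
    (q P s + q P t + g) ∣ g ^ 2 * (1 + q P s) * (1 + q P t) * (1 + g ^ 2 + g) ∧
    (q P s + q P t - g) ∣ g ^ 2 * (1 + q P s) * (1 + q P t) * (1 + g ^ 2 - g) := by
  have hs : s ∈ P.S := by rw [hS]; simp
  have ht : t ∈ P.S := by rw [hS]; simp
  have hq1 : 2 ≤ q P s := two_le_q (P := P) hs
  have hq2 : 2 ≤ q P t := two_le_q (P := P) ht
  have hN := card_chambers hS (by norm_num) hred hbraid hne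
  rw [sum6] at hN
  have hgr : (q P s : ℝ) * (q P t : ℝ) = (g : ℝ) ^ 2 := by exact_mod_cast hg
  have hgle : g ≤ q P s + q P t := by
    by_contra hcon
    have h1 : (q P s + q P t) * (q P s + q P t) < g * g := Nat.mul_self_lt_mul_self (not_le.1 hcon)
    nlinarith only [hg, h1]
  have hgle' : g ≤ 1 + g ^ 2 := by nlinarith only []
  have key : ∀ y : ℝ, y ^ 2 = (g : ℝ) ^ 2 → ∃ D : ℕ, ((q P s : ℝ) + (q P t : ℝ) + y) * (D : ℝ) =
      (g : ℝ) ^ 2 * (1 + (q P s : ℝ)) * (1 + (q P t : ℝ)) * (1 + (g : ℝ) ^ 2 + y) := by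
    intro y hy
    have hpos1 : 0 < 1 + (g : ℝ) ^ 2 - y := by rw [← hy]; linarith only [sq_nonneg (y - 1), sq_nonneg y]
    obtain ⟨D, hD⟩ := fh_count hs ht (m := 3) (by norm_num) hred hbraid (y := y)
      (by
        rw [LieRecognition.FeitHigmanLin.S_add_two, LieRecognition.FeitHigmanLin.S_two,
          LieRecognition.FeitHigmanLin.S_one, hgr, smul_eq_mul]
        linear_combination hy)
      (by
        rw [hgr]
        intro h
        rw [h] at hpos1
        linarith only [hpos1])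
      (by
        intro h
        have h2 : y ^ 2 = ((q P s : ℝ) + (q P t : ℝ)) ^ 2 := by rw [h]; ring
        rw [hy, ← hgr] at h2
        have hq1' : (2 : ℝ) ≤ (q P s : ℝ) := by exact_mod_cast hq1
        have hq2' : (2 : ℝ) ≤ (q P t : ℝ) := by exact_mod_cast hq2
        nlinarith only [h2, hq2'])
    refine ⟨D, ?_⟩
    rw [hN, hgr] at hD
    have h2 : (3 * (1 + (g : ℝ) ^ 2 - y)) * (((q P s : ℝ) + (q P t : ℝ) + y) * (D : ℝ)) =
        (3 * (1 + (g : ℝ) ^ 2 - y)) *
          ((g : ℝ) ^ 2 * (1 + (q P s : ℝ)) * (1 + (q P t : ℝ)) * (1 + (g : ℝ) ^ 2 + y)) := by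
      push_cast at hD
      linear_combination hD + ((1 + (q P s : ℝ)) * (1 + (q P t : ℝ)) * (-(1 + (g : ℝ) ^ 2 + ((g : ℝ) ^ 2) ^ 2) + 3 * (g : ℝ) ^ 2)) * hy
    exact mul_left_cancel₀ (by positivity) h2
  constructor
  · obtain ⟨D, hD⟩ := key g rfl
    refine ⟨D, ?_⟩
    symm
    exact_mod_cast hD
  · obtain ⟨D, hD⟩ := key (-g) (by ring)
    refine ⟨D, ?_⟩
    symm
    have e1 : ((q P s + q P t - g : ℕ) : ℝ) = (q P s : ℝ) + (q P t : ℝ) + -g := by
      rw [Nat.cast_sub hgle]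
      push_cast
      ring
    have e2 : ((1 + g ^ 2 - g : ℕ) : ℝ) = 1 + (g : ℝ) ^ 2 + -g := by
      rw [Nat.cast_sub hgle']
      push_cast
      ring
    have h3 : ((q P s + q P t - g : ℕ) : ℝ) * (D : ℝ) =
        (g : ℝ) ^ 2 * (1 + (q P s : ℝ)) * (1 + (q P t : ℝ)) * ((1 + g ^ 2 - g : ℕ) : ℝ) := by
      rw [e1, e2, hD]
    exact_mod_cast h3

theorem fh8_aux (hred : Red P s t 8) (hbraid : (alt 8 s t)⁻¹ * alt 8 t s ∈ P.B)
    (hne : ∀ k, 1 ≤ k → k < 8 → (alt k s t)⁻¹ * alt k t s ∉ P.B) {h : ℕ} (hh : 2 * q P s * q P t = h ^ 2) :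
    (q P s + q P t) ∣ q P s * q P t * (1 + q P s) * (1 + q P t) * (1 + (q P s * q P t) ^ 2) ∧
    2 * (q P s + q P t + h) ∣ q P s * q P t * (1 + q P s) * (1 + q P t) * (1 + q P s * q P t) *
      (1 + q P s * q P t + h) ∧
    2 * (q P s + q P t - h) ∣ q P s * q P t * (1 + q P s) * (1 + q P t) * (1 + q P s * q P t) *
      (1 + q P s * q P t - h) := by
  have hs : s ∈ P.S := by rw [hS]; simp
  have ht : t ∈ P.S := by rw [hS]; simp
  have hq1 : 2 ≤ q P s := two_le_q (P := P) hs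
  have hq2 : 2 ≤ q P t := two_le_q (P := P) ht
  have hq1' : (2 : ℝ) ≤ (q P s : ℝ) := by exact_mod_cast hq1
  have hq2' : (2 : ℝ) ≤ (q P t : ℝ) := by exact_mod_cast hq2
  have hN := card_chambers hS (by norm_num) hred hbraid hne
  rw [sum8] at hN
  have hhr : 2 * ((q P s : ℝ) * (q P t : ℝ)) = (h : ℝ) ^ 2 := by
    rw [← mul_assoc]
    exact_mod_cast hh
  have hle : h ≤ q P s + q P t := by
    by_contra hcon
    have h1 : (q P s + q P t) * (q P s + q P t) < h * h := Nat.mul_self_lt_mul_self (not_le.1 hcon)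
    nlinarith only [hh, h1]
  have hle' : h ≤ 1 + q P s * q P t := by
    by_contra hcon
    have h1 : (1 + q P s * q P t) * (1 + q P s * q P t) < h * h := Nat.mul_self_lt_mul_self (not_le.1 hcon)
    nlinarith only [hq1, hq2, hle, hcon]
  refine ⟨?_, ?_⟩
  · obtain ⟨D, hD⟩ := fh_count hs ht (m := 4) (by norm_num) hred hbraid (y := 0)
      (by
        rw [LieRecognition.FeitHigmanLin.S_add_two, LieRecognition.FeitHigmanLin.S_two]
        simp) (by (clear * - hq1 hq2; positivity)) (by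
        have : 0 < (q P s : ℝ) + (q P t : ℝ) := by positivity
        linarith only [hq1', hq2'])
    rw [hN] at hD
    refine ⟨D, ?_⟩
    symm
    have h1 : ((q P s : ℝ) + (q P t : ℝ)) * (D : ℝ) =
        (q P s : ℝ) * (q P t : ℝ) * (1 + (q P s : ℝ)) * (1 + (q P t : ℝ)) *
          (1 + ((q P s : ℝ) * (q P t : ℝ)) ^ 2) := by
      have h2 : (4 * (1 + (q P s : ℝ) * (q P t : ℝ))) * (((q P s : ℝ) + (q P t : ℝ)) * (D : ℝ)) =
          (4 * (1 + (q P s : ℝ) * (q P t : ℝ))) * ((q P s : ℝ) * (q P t : ℝ) * (1 + (q P s : ℝ)) *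
            (1 + (q P t : ℝ)) * (1 + ((q P s : ℝ) * (q P t : ℝ)) ^ 2)) := by
        push_cast at hD
        linear_combination hD
      exact mul_left_cancel₀ (by positivity) h2
    exact_mod_cast h1
  have key : ∀ y : ℝ, y ^ 2 = (h : ℝ) ^ 2 → ∃ D : ℕ, (2 * ((q P s : ℝ) + (q P t : ℝ) + y)) * (D : ℝ) =
      (q P s : ℝ) * (q P t : ℝ) * (1 + (q P s : ℝ)) * (1 + (q P t : ℝ)) * (1 + (q P s : ℝ) * (q P t : ℝ)) *
        (1 + (q P s : ℝ) * (q P t : ℝ) + y) := by
    intro y hy
    rw [← hhr] at hy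
    have hpos : ∀ a b : ℝ, 2 ≤ a → 2 ≤ b → y ^ 2 = 2 * (a * b) → 0 < 1 + a * b - y ∧ y ≠ -(a + b) := by
      intro a b ha hb hy
      have hab : 0 < a * b := by positivity
      constructor
      · by_contra hcon
        have h1 : 1 + a * b ≤ y := by linarith only [hcon]
        have h2 : (1 + a * b) * (1 + a * b) ≤ y * y := mul_le_mul h1 h1 (by positivity) (by linarith only [hab, hcon])
        nlinarith only [hy, h2]
      · intro h1
        rw [h1] at hy
        nlinarith only [ha, hb, hy]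
    obtain ⟨hpos1, hpos2⟩ := hpos _ _ hq1' hq2' hy
    obtain ⟨D, hD⟩ := fh_count hs ht (m := 4) (by norm_num) hred hbraid (y := y)
      (by
        rw [LieRecognition.FeitHigmanLin.S_add_two, LieRecognition.FeitHigmanLin.S_add_two,
          LieRecognition.FeitHigmanLin.S_two, LieRecognition.FeitHigmanLin.S_one, smul_eq_mul, smul_eq_mul]
        linear_combination y * hy)
      (by
        intro h
        rw [h] at hpos1
        linarith only [hpos1]) hpos2
    refine ⟨D, ?_⟩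
    rw [hN] at hD
    generalize (q P s : ℝ) = a at *
    generalize (q P t : ℝ) = b at *
    have h2 : (2 * (1 + a * b - y)) * ((2 * (a + b + y)) * (D : ℝ)) =
        (2 * (1 + a * b - y)) * (a * b * (1 + a) * (1 + b) * (1 + a * b) * (1 + a * b + y)) := by
      push_cast at hD
      linear_combination hD + (-((1 + a) * (1 + b) * (1 + a * b) * (1 + (a * b) ^ 2)) +
        2 * a * b * (1 + a) * (1 + b) * (1 + a * b)) * hy
    exact mul_left_cancel₀ (by (clear * - hpos1; positivity)) h2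
  constructor
  · obtain ⟨D, hD⟩ := key h rfl
    refine ⟨D, ?_⟩
    symm
    exact_mod_cast hD
  · obtain ⟨D, hD⟩ := key (-h) (by ring)
    refine ⟨D, ?_⟩
    symm
    have e1 : ((q P s + q P t - h : ℕ) : ℝ) = (q P s : ℝ) + (q P t : ℝ) + -h := by
      rw [Nat.cast_sub hle]
      push_cast
      ring
    have e2 : ((1 + q P s * q P t - h : ℕ) : ℝ) = 1 + (q P s : ℝ) * (q P t : ℝ) + -h := by
      rw [Nat.cast_sub hle']
      push_cast
      ring
    have h3 : (2 * ((q P s + q P t - h : ℕ) : ℝ)) * (D : ℝ) =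
      (q P s : ℝ) * (q P t : ℝ) * (1 + (q P s : ℝ)) * (1 + (q P t : ℝ)) * (1 + (q P s : ℝ) * (q P t : ℝ)) *
        ((1 + q P s * q P t - h : ℕ) : ℝ) := by
      rw [e1, e2, hD]
    exact_mod_cast h3

end

/-- **Higman's inequality and the Feit-Higman conditions** for a finite (B,N)-pair of rank two with
Weyl group of order `2 * n`. -/
theorem numN [Finite G] (hst : s ≠ t) (hS : P.S = {s, t}) {n : ℕ}
    (hidx : ((P.B ⊓ P.N).subgroupOf P.N).index = 2 * n) : NumN n (q P s) (q P t) := by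
  have hs : s ∈ P.S := by rw [hS]; simp
  have ht : t ∈ P.S := by rw [hS]; simp
  obtain ⟨n', hn', hred, hbraid, hne⟩ := exists_max_red hS hst
  have h1 := card_weyl hS (by omega) hred hbraid hne
  obtain rfl : n = n' := by omega
  have hred' : Red P t s n := ⟨hred.2, hred.1⟩
  have hbraid' : (alt n t s)⁻¹ * alt n s t ∈ P.B := rel_symm hbraid
  have hne' : ∀ k, 1 ≤ k → k < n → (alt k t s)⁻¹ * alt k s t ∉ P.B := fun k hk hk' h =>
    hne k hk hk' (rel_symm h)
  refine ⟨?_, ?_, ?_, ?_, ?_⟩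
  · rintro (rfl | rfl)
    · exact ⟨higman4 hs ht hred hbraid hne, higman4 ht hs hred' hbraid' hne'⟩
    · exact ⟨higman8 hs ht hred hbraid hne, higman8 ht hs hred' hbraid' hne'⟩
  · rintro rfl
    exact ⟨higman6 hs ht hred hbraid hne, higman6 ht hs hred' hbraid' hne'⟩
  · rintro rfl
    exact fh4_aux hS hred hbraid hne
  · rintro rfl
    obtain ⟨g, hg⟩ := LieRecognition.FHSquare.isSquare_mul hst hS hidx
    rw [← sq] at hg
    exact ⟨g, hg, fh6_aux hS hred hbraid hne hg⟩
  · rintro rfl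
    obtain ⟨h, hh⟩ := LieRecognition.FHSquare.isSquare_two_mul hst hS hidx
    rw [← sq] at hh
    exact ⟨h, hh, fh8_aux hS hred hbraid hne hh⟩

/-! ### The index -/

/-- `q s = |B : B ∩ s B s⁻¹|` -/
theorem relIndex_eq_q (P : BNPair G) (s : G) :
    (P.B ⊓ P.B.map (MulAut.conj s).toMonoidHom).relIndex P.B = q P s := by
  have h1 : (P.B ⊓ P.B.map (MulAut.conj s).toMonoidHom).subgroupOf P.B =
      MulAction.stabilizer P.B (s : G ⧸ P.B) := by
    ext b
    rw [Subgroup.mem_subgroupOf, Subgroup.mem_inf, MulAction.mem_stabilizer_iff]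
    have h2 : b • (s : G ⧸ P.B) = (((b : G) * s : G) : G ⧸ P.B) := rfl
    rw [h2, eq_comm, QuotientGroup.eq]
    constructor
    · rintro ⟨-, x, hx, hxb⟩
      have h3 : s * x * s⁻¹ = (b : G) := hxb
      rw [← h3]
      have e : s⁻¹ * (s * x * s⁻¹ * s) = x := by group
      rwa [e]
    · intro h
      refine ⟨b.2, s⁻¹ * ((b : G) * s), h, ?_⟩
      change s * (s⁻¹ * ((b : G) * s)) * s⁻¹ = (b : G)
      group
  have h2 : MulAction.orbit P.B (s : G ⧸ P.B) = {y : G ⧸ P.B | R P s ((1 : G) : G ⧸ P.B) y} := by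
    ext y
    induction y using QuotientGroup.induction_on with
    | H g =>
      rw [Set.mem_ofPred_eq, R_mk_iff, inv_one, one_mul]
      constructor
      · rintro ⟨b, hb⟩
        have h3 : (((b : G) * s : G) : G ⧸ P.B) = (g : G ⧸ P.B) := hb
        rw [QuotientGroup.eq] at h3
        exact mem_C.2 ⟨b, b.2, _, h3, by group⟩
      · intro h
        obtain ⟨b, hb, c, hc, e⟩ := mem_C.1 h
        refine ⟨⟨b, hb⟩, ?_⟩
        have h3 : (((b : G) * s : G) : G ⧸ P.B) = (g : G ⧸ P.B) := by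
          rw [QuotientGroup.eq, e]
          have e' : (b * s)⁻¹ * (b * s * c) = c := by group
          rwa [e']
        exact h3
  have h3 : (P.B ⊓ P.B.map (MulAut.conj s).toMonoidHom).relIndex P.B =
      (MulAction.stabilizer P.B (s : G ⧸ P.B)).index := by
    rw [← h1]; rfl
  rw [h3, MulAction.index_stabilizer, h2]
  rfl

open H873.Tits in
/-- `Num` for the polygon of a (B,N)-pair -/
theorem num {G : Type*} [Group G] [Finite G] {V : Type*} [MulAction G V] (B : BNPair G) (h2 : B.rank = 2)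
    (P : Pol G V) (hn : ((B.B ⊓ B.N).subgroupOf B.N).index = 2 * P.n)
    (h3 : ∀ s ∈ B.S, ∃ b, (B.B ⊓ B.B.map (MulAut.conj s).toMonoidHom).relIndex B.B = P.q b)
    (h4 : ∀ b, ∃ s ∈ B.S, (B.B ⊓ B.B.map (MulAut.conj s).toMonoidHom).relIndex B.B = P.q b) :
    Num P := by
  have hcard : B.S.ncard = 2 := by
    rw [← h2]; rfl
  obtain ⟨s, t, hst, hS⟩ := Set.ncard_eq_two.1 hcard
  have hs : s ∈ B.S := by rw [hS]; simp
  have ht : t ∈ B.S := by rw [hS]; simp
  have key : NumN P.n (P.q true) (P.q false) := by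
    have h5 := numN hst hS hn
    have h6 := numN hst.symm (by rw [hS, Set.pair_comm] : B.S = {t, s}) hn
    obtain ⟨s₁, hs₁, e₁⟩ := h4 true
    obtain ⟨s₂, hs₂, e₂⟩ := h4 false
    obtain ⟨b, hb⟩ := h3 s hs
    obtain ⟨c, hc⟩ := h3 t ht
    rw [relIndex_eq_q] at e₁ e₂ hb hc
    rw [hS] at hs₁ hs₂
    have h7 : s₁ = s ∨ s₁ = t := hs₁
    have h8 : s₂ = s ∨ s₂ = t := hs₂
    rcases h7 with h7 | h7 <;> rcases h8 with h8 | h8
    · rw [h7] at e₁
      rw [h8] at e₂
      have h9 : q B t = q B s := by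
        cases c
        · rw [hc, e₂]
        · rw [hc, e₁]
      rw [h9] at h5
      rw [← e₁, ← e₂]
      exact h5
    · rw [← e₁, ← e₂, h7, h8]; exact h5
    · rw [← e₁, ← e₂, h7, h8]; exact h6
    · rw [h7] at e₁
      rw [h8] at e₂
      have h9 : q B s = q B t := by
        cases b
        · rw [hb, e₂]
        · rw [hb, e₁]
      rw [h9] at h5
      rw [← e₁, ← e₂]
      exact h5
  refine ⟨?_, ?_, key.fh4, key.fh6, key.fh8⟩
  · intro h b
    cases b
    · exact (key.hig48 h).2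
    · exact (key.hig48 h).1
  · intro h b
    cases b
    · exact (key.hig6 h).2
    · exact (key.hig6 h).1

end NumSec

end Cfsg.Agent.H95.Hig

private theorem dce_633bad86a8ff : _root_.True := by
  try have : _root_.True := by simp only [_root_.Cfsg.Agent.H95.Hig.W.eq_1]
  try have : _root_.True := by simp only [_root_.Cfsg.Agent.H95.Hig.W.congr_simp]
  try have : _root_.True := by simp only [_root_.Cfsg.Agent.H95.Hig.ec.eq_1]
  exact _root_.True.intro
end
end
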